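import Cfsg.Agent.H72.AbelianFour.Basic

/-!
Structure of an invariant `r`-group acting on an invariant `p`-group: its derived subgroup acts
trivially, and a `p`-group normalising such a faithful abelian group centralises it.
-/

set_option autoImplicit false

open scoped commutatorElement Pointwise
open Subgroup

namespace H72.AbelianFour

variable {Γ : Type*} [Group Γ] [Finite Γ] {q : ℕ} [hq : Fact q.Prime] {A N : Subgroup Γ}

namespace Fpf

variable (h : Fpf q A N) {p : ℕ} [Fact p.Prime]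
include h

/-- Two components of different lines: the second centralises the commutator with the first. -/
theorem centralizes_commutator {T B B' : Subgroup Γ} (hT : IsPGroup p T) (hTN : T ≤ N)
    (hTi : A ≤ normalizer (T : Set Γ)) (hBN : B ≤ N) (hBi : A ≤ normalizer (B : Set Γ))
    (hBT : B ≤ normalizer (T : Set Γ)) (hcopB : (Nat.card B).Coprime p) (hB'N : B' ≤ N)
    (hB'i : A ≤ normalizer (B' : Set Γ))
    (hB'U : B' ≤ normalizer ((⁅T, B⁆ : Subgroup Γ) : Set Γ))
    (hcopB' : (Nat.card B').Coprime p) {a c : Γ} (ha : a ∈ A) (ha1 : a ≠ 1) (hc : c ∈ A)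
    (hac : c ∉ zpowers a) (hBa : B ≤ centralizer ({a} : Set Γ))
    (hB'c : B' ≤ centralizer ({c} : Set Γ)) :
    B' ≤ centralizer ((⁅T, B⁆ : Subgroup Γ) : Set Γ) := by
  by_cases hT0 : T = ⊥
  · subst hT0
    intro x _ y hy
    rw [Subgroup.commutator_bot_left, Subgroup.coe_bot, Set.mem_singleton_iff] at hy
    rw [hy, one_mul, mul_one]
  have hU : ⁅T, B⁆ ≤ T := H1.commutator_le_left_of_le_normalizer hBT
  have hcopBT : (Nat.card B).Coprime (Nat.card T) := by
    obtain ⟨k, hk⟩ := IsPGroup.iff_card.mp hT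
    rw [hk]; exact hcopB.pow_right k
  haveI := hT.isNilpotent
  have heq := H1.commutator_commutator_eq hBT hcopBT (Or.inr inferInstance)
  refine master (h.prime_ne hT hTN hT0) (hT.to_le hU) (h.expo a ha)
    (H83.le_normalizer_commutator hTi hBi ha) (hB'i ha) H1.right_le_normalizer_commutator hB'U
    hcopB hcopB' heq.ge (fun u hu b hb => ?_) fun x hx hxa => ?_
  · exact h.abel a ha ha1 b (hBN hb) u (hTN (hU hu.1)) (mem_centralizer_singleton_iff.mp (hBa hb))
      (mem_centralizer_singleton_iff.mp hu.2)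
  · exact h.eq_one_of_fixed ha ha1 hc hac (hB'N hx) hxa
      (mem_centralizer_singleton_iff.mp (hB'c hx))

/-- The derived subgroup of an invariant group of order prime to `p` and nilpotent acts trivially
on an invariant `p`-group it normalises. -/
theorem derived_centralizes {r : ℕ} [Fact r.Prime] (hrp : r ≠ p) {Y : Subgroup Γ}
    (hY : IsPGroup r Y) (hYN : Y ≤ N) (hYi : A ≤ normalizer (Y : Set Γ)) :
    ∀ T : Subgroup Γ, IsPGroup p T → T ≤ N → A ≤ normalizer (T : Set Γ) →
      Y ≤ normalizer (T : Set Γ) → ⁅Y, Y⁆ ≤ centralizer (T : Set Γ) := by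
  intro T
  induction hn : Nat.card T using Nat.strong_induction_on generalizing T with
  | _ n ih =>
    intro hT hTN hTi hYT
    have hcopY : ∀ B : Subgroup Γ, B ≤ Y → (Nat.card B).Coprime p := fun B hB =>
      Nat.Coprime.coprime_dvd_left (card_dvd_of_le hB) (by
        obtain ⟨k, hk⟩ := IsPGroup.iff_card.mp hY
        rw [hk]
        exact (((Nat.coprime_primes Fact.out Fact.out).mpr hrp)).pow_left k)
    set K := Y ⊓ centralizer (T : Set Γ) with hK
    by_cases hYK : Y ≤ K
    · exact fun x hx => (hYK (commutator_le_self Y hx)).2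
    -- a component central modulo the kernel and outside it
    obtain ⟨U, ⟨hUY, hUi, hUn, hUK⟩, hUmin⟩ := Set.Finite.exists_minimal (s := {U : Subgroup Γ |
        U ≤ Y ∧ A ≤ normalizer (U : Set Γ) ∧ Y ≤ normalizer (U : Set Γ) ∧ ¬ U ≤ K})
      (Set.toFinite _) ⟨Y, le_rfl, hYi, Subgroup.le_normalizer, hYK⟩
    have hUcomm : ⁅U, Y⁆ ≤ K := by
      by_contra hcon
      have hlt : ⁅U, Y⁆ < U := H1.commutator_lt_of_isPGroup hY (hY.to_le hUY) hUn
        fun e => hUK (e ▸ bot_le)
      exact hlt.not_ge (hUmin ⟨hlt.le.trans hUY, H83.le_normalizer_commutator hUi hYi,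
        H83.le_normalizer_commutator hUn Subgroup.le_normalizer, hcon⟩ hlt.le)
    obtain ⟨a, ha, ha1, haK⟩ := h.exists_comp_not_le (hUY.trans hYN) hUi hUK
    set B := comp U a with hB
    have hBY : B ≤ Y := inf_le_left.trans hUY
    have hBi : A ≤ normalizer (B : Set Γ) := h.comp_inv hUi ha
    have hBT : B ≤ normalizer (T : Set Γ) := hBY.trans hYT
    have hBYK : ∀ b ∈ B, ∀ y ∈ Y, y * b * y⁻¹ * b⁻¹ ∈ K := fun b hb y hy => by
      have h1 := K.inv_mem (hUcomm (commutator_mem_commutator hb.1 hy))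
      simpa [commutatorElement_def, mul_assoc] using h1
    set U1 := ⁅T, B⁆ with hU1
    have hU1T : U1 ≤ T := H1.commutator_le_left_of_le_normalizer hBT
    set T0 := T ⊓ centralizer (B : Set Γ) with hT0
    have hYU1 : Y ≤ normalizer (U1 : Set Γ) := by
      refine Subgroup.le_normalizer_iff.mpr fun y hy x hx => ?_
      suffices hle : U1 ≤ U1.comap (MulAut.conj y).toMonoidHom by exact hle hx
      rw [hU1, commutator_le]
      intro t ht b hb
      change y * ⁅t, b⁆ * y⁻¹ ∈ U1
      set t' := y * t * y⁻¹ with ht'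
      set k := y * b * y⁻¹ * b⁻¹ with hk
      have ht'T : t' ∈ T := (Subgroup.mem_normalizer_iff.mp (hYT hy) t).mp ht
      have hbt : b * t'⁻¹ * b⁻¹ ∈ T :=
        (Subgroup.mem_normalizer_iff.mp (hBT hb) _).mp (inv_mem ht'T)
      have hcom : k * (b * t'⁻¹ * b⁻¹) = (b * t'⁻¹ * b⁻¹) * k :=
        (mem_centralizer_iff.mp (hBYK b hb y hy).2 _ hbt).symm
      have heq : y * ⁅t, b⁆ * y⁻¹ = ⁅t', b⁆ := by
        calc y * ⁅t, b⁆ * y⁻¹ = t' * (k * (b * t'⁻¹ * b⁻¹)) * k⁻¹ := by
              rw [ht', hk, commutatorElement_def]; group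
          _ = t' * ((b * t'⁻¹ * b⁻¹) * k) * k⁻¹ := by rw [hcom]
          _ = ⁅t', b⁆ := by rw [commutatorElement_def]; group
      rw [heq]
      exact commutator_mem_commutator ht'T hb
    have hYT0 : Y ≤ normalizer (T0 : Set Γ) := by
      refine Subgroup.le_normalizer_iff.mpr fun y hy x hx => ⟨?_, mem_centralizer_iff.mpr
        fun b hb => ?_⟩
      · exact (Subgroup.mem_normalizer_iff.mp (hYT hy) x).mp hx.1
      · have h1 : y⁻¹ * b * y * b⁻¹ ∈ K := by simpa using hBYK b hb y⁻¹ (inv_mem hy)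
        have h2 : (y⁻¹ * b * y * b⁻¹) * x = x * (y⁻¹ * b * y * b⁻¹) :=
          (mem_centralizer_iff.mp h1.2 x hx.1).symm
        have h3 : b * x = x * b := mem_centralizer_iff.mp hx.2 b hb
        calc b * (y * x * y⁻¹) = y * ((y⁻¹ * b * y * b⁻¹) * (b * x)) * y⁻¹ := by group
          _ = y * ((y⁻¹ * b * y * b⁻¹) * x * b) * y⁻¹ := by rw [h3, mul_assoc _ x b]
          _ = y * (x * (y⁻¹ * b * y * b⁻¹) * b) * y⁻¹ := by rw [h2]
          _ = y * x * y⁻¹ * b := by group
    have hT0lt : T0 < T := by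
      refine lt_of_le_of_ne inf_le_left fun e => haK fun b hb => ?_
      refine ⟨hBY hb, mem_centralizer_iff.mpr fun t ht => ?_⟩
      have ht0 : t ∈ T0 := by rw [e]; exact ht
      exact (mem_centralizer_iff.mp ht0.2 b hb).symm
    have hT0i : A ≤ normalizer (T0 : Set Γ) :=
      H8.le_normalizer_inf hTi (H8.le_normalizer_centralizer_of_le_normalizer hBi)
    have h0 : ⁅Y, Y⁆ ≤ centralizer (T0 : Set Γ) := by
      refine ih (Nat.card T0) (hn ▸ ?_) T0 rfl (hT.to_le inf_le_left) (inf_le_left.trans hTN)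
        hT0i hYT0
      exact Set.ncard_lt_ncard (SetLike.coe_ssubset_coe.mpr hT0lt) (Set.toFinite _)
    -- on the commutator with `B` the group acts through one component
    set D := Y ⊓ centralizer (U1 : Set Γ) with hD
    set E := comp Y a with hE
    have hYn : Y ≤ normalizer (D : Set Γ) :=
      H8.le_normalizer_inf Subgroup.le_normalizer
        (H8.le_normalizer_centralizer_of_le_normalizer hYU1)
    have hgen : Y ≤ E ⊔ D := by
      refine h.le_of_comp_le hYN hYi fun c hc hc1 => ?_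
      by_cases hca : c ∈ zpowers a
      · exact le_trans (comp_congr (h.zpowers_eq_of_mem ha ha1 hc1 hca)).le le_sup_left
      · refine le_trans (le_inf inf_le_left ?_) le_sup_right
        exact h.centralizes_commutator hT hTN hTi (hBY.trans hYN) hBi hBT (hcopY B hBY)
          (inf_le_left.trans hYN) (h.comp_inv hYi hc) (inf_le_left.trans hYU1)
          (hcopY _ inf_le_left) ha ha1 hc hca inf_le_right inf_le_right
    have hmul : ∀ y ∈ Y, ∃ e ∈ E, ∃ d ∈ D, e * d = y := fun y hy => by
      have hset := Subgroup.coe_mul_of_left_le_normalizer_right E D (inf_le_left.trans hYn)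
      have hy' : y ∈ ((E ⊔ D : Subgroup Γ) : Set Γ) := hgen hy
      rw [hset] at hy'
      exact Set.mem_mul.mp hy'
    have h1 : ⁅Y, Y⁆ ≤ centralizer (U1 : Set Γ) := by
      rw [commutator_le]
      intro y1 hy1 y2 hy2
      obtain ⟨e1, he1, d1, hd1, rfl⟩ := hmul y1 hy1
      obtain ⟨e2, he2, d2, hd2, rfl⟩ := hmul y2 hy2
      have hconj : ∀ e ∈ E, ∀ d ∈ D, ∀ u ∈ U1, (e * d) * u * (e * d)⁻¹ = e * u * e⁻¹ :=
        fun e _ d hd u hu => by
          have : d * u = u * d := (mem_centralizer_iff.mp hd.2 u hu).symm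
          calc (e * d) * u * (e * d)⁻¹ = e * (d * u) * d⁻¹ * e⁻¹ := by group
            _ = e * u * e⁻¹ := by rw [this]; group
      refine mem_centralizer_iff.mpr fun u hu => ?_
      have hmem : ∀ e ∈ E, ∀ v ∈ U1, e * v * e⁻¹ ∈ U1 := fun e he v hv =>
        (Subgroup.mem_normalizer_iff.mp (hYU1 he.1) v).mp hv
      have he12 : e1 * e2 = e2 * e1 := h.comm_comp hYN hYN ha ha1 he1 he2
      have key : ∀ v ∈ U1, (e1 * d1) * (e2 * d2) * v * ((e1 * d1) * (e2 * d2))⁻¹ =
          (e2 * d2) * (e1 * d1) * v * ((e2 * d2) * (e1 * d1))⁻¹ := fun v hv => by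
        calc (e1 * d1) * (e2 * d2) * v * ((e1 * d1) * (e2 * d2))⁻¹
            = (e1 * d1) * ((e2 * d2) * v * (e2 * d2)⁻¹) * (e1 * d1)⁻¹ := by group
          _ = e1 * (e2 * v * e2⁻¹) * e1⁻¹ := by
              rw [hconj e2 he2 d2 hd2 v hv, hconj e1 he1 d1 hd1 _ (hmem e2 he2 v hv)]
          _ = (e1 * e2) * v * (e1 * e2)⁻¹ := by group
          _ = (e2 * e1) * v * (e2 * e1)⁻¹ := by rw [he12]
          _ = e2 * (e1 * v * e1⁻¹) * e2⁻¹ := by group
          _ = (e2 * d2) * ((e1 * d1) * v * (e1 * d1)⁻¹) * (e2 * d2)⁻¹ := by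
              rw [hconj e1 he1 d1 hd1 v hv, hconj e2 he2 d2 hd2 _ (hmem e1 he1 v hv)]
          _ = (e2 * d2) * (e1 * d1) * v * ((e2 * d2) * (e1 * d1))⁻¹ := by group
      have hw : ((e2 * d2) * (e1 * d1))⁻¹ * u * ((e2 * d2) * (e1 * d1)) ∈ U1 := by
        have hm : (e2 * d2) * (e1 * d1) ∈ normalizer (U1 : Set Γ) :=
          hYU1 (mul_mem (mul_mem he2.1 hd2.1) (mul_mem he1.1 hd1.1))
        exact (Subgroup.mem_normalizer_iff''.mp hm u).mp hu
      have hk := key _ hw
      set y := e1 * d1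
      set z := e2 * d2
      have hk' : ⁅y, z⁆ * u * ⁅y, z⁆⁻¹ = u := by
        calc ⁅y, z⁆ * u * ⁅y, z⁆⁻¹ = y * z * ((z * y)⁻¹ * u * (z * y)) * (y * z)⁻¹ := by
              rw [commutatorElement_def]; group
          _ = z * y * ((z * y)⁻¹ * u * (z * y)) * (z * y)⁻¹ := hk
          _ = u := by group
      exact (mul_inv_eq_iff_eq_mul.mp hk').symm
    have hcopBT : (Nat.card B).Coprime (Nat.card T) := by
      obtain ⟨k, hk⟩ := IsPGroup.iff_card.mp hT
      rw [hk]; exact (hcopY B hBY).pow_right k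
    haveI := hT.isNilpotent
    have hTsplit := H1.commutator_sup_centralizer_eq hBT hcopBT (Or.inr inferInstance)
    rw [le_centralizer_iff, ← hTsplit, sup_le_iff]
    exact ⟨le_centralizer_iff.mp h1, le_centralizer_iff.mp h0⟩

/-- A `p`-group normalising a `p`-group `R` and an abelian invariant group `Y` of order prime to `p`
that acts faithfully on `R` centralises `Y`. -/
theorem abelian_centralizes {R Y S : Subgroup Γ} (hR : IsPGroup p R) (hRN : R ≤ N)
    (hRi : A ≤ normalizer (R : Set Γ)) (hYN : Y ≤ N) (hYi : A ≤ normalizer (Y : Set Γ))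
    (hYR : Y ≤ normalizer (R : Set Γ)) (hYp : (Nat.card Y).Coprime p)
    (hYab : ∀ x ∈ Y, ∀ y ∈ Y, x * y = y * x)
    (hfaith : Y ⊓ centralizer (R : Set Γ) = ⊥) (hSN : S ≤ N) (hSi : A ≤ normalizer (S : Set Γ))
    (hSR : S ≤ normalizer (R : Set Γ)) (hSY : S ≤ normalizer (Y : Set Γ)) :
    S ≤ centralizer (Y : Set Γ) := by
  refine h.le_of_comp_le hSN hSi fun a ha ha1 x hx => ?_
  rw [mem_centralizer_iff]
  intro y hy
  suffices hle : Y ≤ centralizer ({x} : Set Γ) from mem_centralizer_singleton_iff.mp (hle hy)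
  clear hy y
  refine h.le_of_comp_le hYN hYi fun c hc hc1 y hy => mem_centralizer_singleton_iff.mpr ?_
  by_cases hca : c ∈ zpowers a
  · rw [comp_congr (h.zpowers_eq_of_mem ha ha1 hc1 hca)] at hy
    exact h.comm_comp hYN hSN ha ha1 hy hx
  have hxY : x ∈ normalizer (Y : Set Γ) := hSY hx.1
  have hxR : x ∈ normalizer (R : Set Γ) := hSR hx.1
  set k := y * x * y⁻¹ * x⁻¹ with hk
  have hkY : k ∈ Y := by
    have h1 : x * y⁻¹ * x⁻¹ ∈ Y := (Subgroup.mem_normalizer_iff.mp hxY _).mp (inv_mem hy.1)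
    have h2 := mul_mem hy.1 h1
    simpa [hk, mul_assoc] using h2
  suffices hkR : k ∈ centralizer (R : Set Γ) by
    have : k ∈ Y ⊓ centralizer (R : Set Γ) := ⟨hkY, hkR⟩
    rw [hfaith, Subgroup.mem_bot, hk, mul_inv_eq_one, mul_inv_eq_iff_eq_mul] at this
    exact this
  have hcop : (Nat.card Y).Coprime (Nat.card R) := by
    obtain ⟨j, hj⟩ := IsPGroup.iff_card.mp hR
    rw [hj]; exact hYp.pow_right j
  haveI := hR.isNilpotent
  have hRsplit := H1.commutator_sup_centralizer_eq hYR hcop (Or.inr inferInstance)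
  have hYcomp : ∀ d : Γ, comp Y d ≤ Y := fun d => inf_le_left
  have hcopc : ∀ d : Γ, (Nat.card (comp Y d)).Coprime p := fun d =>
    hYp.coprime_dvd_left (card_dvd_of_le (hYcomp d))
  have hYU : ∀ d : Γ, Y ≤ normalizer ((⁅R, comp Y d⁆ : Subgroup Γ) : Set Γ) := fun d =>
    H83.le_normalizer_commutator hYR fun z hz => Subgroup.mem_normalizer_iff.mpr fun w => by
      constructor
      · intro hw
        rwa [show z * w * z⁻¹ = w by rw [hYab z hz w hw.1, mul_inv_cancel_right]]
      · intro hw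
        have hwY : w ∈ Y := by
          simpa [mul_assoc] using mul_mem (mul_mem (inv_mem hz) hw.1) hz
        rwa [show z * w * z⁻¹ = w by rw [hYab z hz w hwY, mul_inv_cancel_right]] at hw
  -- the main step: `k` centralises the commutators with every component
  have hmain : ∀ d ∈ A, d ≠ 1 → k ∈ centralizer ((⁅R, comp Y d⁆ : Subgroup Γ) : Set Γ) := by
    intro d hd hd1
    set U := ⁅R, comp Y d⁆ with hU
    have hUR : U ≤ R := H1.commutator_le_left_of_le_normalizer ((hYcomp d).trans hYR)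
    have hUi : A ≤ normalizer (U : Set Γ) := H83.le_normalizer_commutator hRi (h.comp_inv hYi hd)
    have hL2 : ∀ e ∈ A, e ∉ zpowers d → comp Y e ≤ centralizer (U : Set Γ) := fun e he hed =>
      h.centralizes_commutator hR hRN hRi ((hYcomp d).trans hYN) (h.comp_inv hYi hd)
        ((hYcomp d).trans hYR) (hcopc d) ((hYcomp e).trans hYN) (h.comp_inv hYi he)
        ((hYcomp e).trans (hYU d)) (hcopc e) hd hd1 he hed inf_le_right inf_le_right
    by_cases hda : d ∈ zpowers a
    · have hde : comp Y d = comp Y a := comp_congr (h.zpowers_eq_of_mem ha ha1 hd1 hda)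
      have hxU : x ∈ normalizer (U : Set Γ) := by
        refine (H83.le_normalizer_commutator (B := zpowers x) (zpowers_le.mpr hxR) ?_)
          (mem_zpowers x)
        rw [zpowers_le, Subgroup.mem_normalizer_iff, hde]
        intro w
        constructor
        · intro hw
          rwa [show x * w * x⁻¹ = w by rw [h.comm_comp hSN hYN ha ha1 hx hw, mul_inv_cancel_right]]
        · intro hw
          have hcw : w * a = a * w ∧ w ∈ Y := by
            obtain ⟨hwY, hwa⟩ := mem_comp.mp hw
            refine ⟨?_, (Subgroup.mem_normalizer_iff.mp hxY w).mpr hwY⟩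
            have hxa : Commute x a := (mem_comp.mp hx).2
            have hwa' : Commute (x * w * x⁻¹) a := hwa
            have := (hxa.inv_left.mul_left hwa').mul_left hxa
            simpa [mul_assoc] using this.eq
          have hwc : w ∈ comp Y a := mem_comp.mpr ⟨hcw.2, hcw.1⟩
          exact hwc
      have hyC : y ∈ centralizer (U : Set Γ) := by
        refine hL2 c hc ?_ hy
        rwa [h.zpowers_eq_of_mem ha ha1 hd1 hda]
      have hxyC : x * y⁻¹ * x⁻¹ ∈ centralizer (U : Set Γ) := by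
        have hle : zpowers x ≤ normalizer (centralizer (U : Set Γ) : Set Γ) :=
          H8.le_normalizer_centralizer_of_le_normalizer (zpowers_le.mpr hxU)
        exact (Subgroup.mem_normalizer_iff.mp (hle (mem_zpowers x)) _).mp (inv_mem hyC)
      have h2 := mul_mem hyC hxyC
      simpa [hk, mul_assoc] using h2
    -- `d` off the line of `a`
    set K := Y ⊓ centralizer (U : Set Γ) with hK
    set Ua := comp U a with hUa
    have hKeq : Y ⊓ centralizer (Ua : Set Γ) ≤ K := by
      refine le_inf inf_le_left ?_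
      have hKci : A ≤ normalizer ((Y ⊓ centralizer (Ua : Set Γ) : Subgroup Γ) : Set Γ) :=
        H8.le_normalizer_inf hYi
          (H8.le_normalizer_centralizer_of_le_normalizer (h.comp_inv hUi ha))
      refine h.le_of_comp_le (inf_le_left.trans hYN) hKci fun e he he1 => ?_
      by_cases hed : e ∈ zpowers d
      · set B := comp (Y ⊓ centralizer (Ua : Set Γ)) e with hB
        have hBY : B ≤ Y := inf_le_left.trans inf_le_left
        have hBU : B ≤ normalizer (U : Set Γ) := hBY.trans (hYU d)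
        refine h.centralizes_of_comp (hR.to_le hUR) (hUR.trans hRN) hUi (hBY.trans hYN)
          (h.comp_inv hKci he) hBU (hYp.coprime_dvd_left (card_dvd_of_le hBY)) he he1 inf_le_right
          ha ?_ fun u hu b hb => ?_
        · intro hae
          exact h.not_mem_symm ha1 hd hda (h.zpowers_eq_of_mem hd hd1 he1 hed ▸ hae)
        · have hu' : u ∈ Ua := ⟨H1.commutator_le_left_of_le_normalizer hBU hu.1, hu.2⟩
          exact (mem_centralizer_iff.mp hb.1.2 u hu').symm
      · exact (inf_le_inf_right _ inf_le_left).trans (hL2 e he hed)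
    have hUaS : ∀ z ∈ comp S a, ∀ u ∈ Ua, z * u = u * z := fun z hz u hu =>
      h.comm_comp hSN (hUR.trans hRN) ha ha1 hz hu
    have hzK : ∀ z ∈ comp S a, ∀ w ∈ K, z * w * z⁻¹ ∈ K := by
      intro z hz w hw
      refine hKeq ⟨(Subgroup.mem_normalizer_iff.mp (hSY hz.1) w).mp hw.1,
        mem_centralizer_iff.mpr fun u hu => ?_⟩
      have h1 : z * u = u * z := hUaS z hz u hu
      have h2 : u * w = w * u := mem_centralizer_iff.mp hw.2 u hu.1
      have h3 : Commute u (z * w * z⁻¹) :=
        ((Commute.symm (show Commute z u from h1)).mul_right (show Commute u w from h2)).mul_right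
          ((Commute.symm (show Commute z u from h1)).inv_right)
      exact h3.eq
    -- `d` acts trivially on `Y / K`
    have hdY : ∀ w ∈ Y, d * w * d⁻¹ * w⁻¹ ∈ K := by
      have hdK : ∀ w ∈ K, d * w * d⁻¹ ∈ K := fun w hw =>
        (Subgroup.mem_normalizer_iff.mp ((H8.le_normalizer_inf hYi
          (H8.le_normalizer_centralizer_of_le_normalizer hUi)) hd) w).mp hw
      let W : Subgroup Γ :=
        { carrier := {w | w ∈ Y ∧ d * w * d⁻¹ * w⁻¹ ∈ K}
          one_mem' := ⟨one_mem _, by simp⟩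
          mul_mem' := fun {u v} hu hv => ⟨mul_mem hu.1 hv.1, by
            have hdu : d * u * d⁻¹ ∈ Y := (Subgroup.mem_normalizer_iff.mp (hYi hd) u).mp hu.1
            have hc1' := hYab _ hdu _ hv.2.1
            have he : d * (u * v) * d⁻¹ * (u * v)⁻¹ =
                (d * u * d⁻¹) * (d * v * d⁻¹ * v⁻¹) * u⁻¹ := by group
            rw [he, hc1', mul_assoc]
            exact mul_mem hv.2 hu.2⟩
          inv_mem' := fun {u} hu => ⟨inv_mem hu.1, by
            have h1 := inv_mem hu.2
            have he : d * u⁻¹ * d⁻¹ * u⁻¹⁻¹ =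
                u⁻¹ * (u * (d * u⁻¹ * d⁻¹)) * u := by group
            rw [he, hYab _ (inv_mem hu.1) _ (mul_mem hu.1
              ((Subgroup.mem_normalizer_iff.mp (hYi hd) _).mp (inv_mem hu.1))), inv_mul_cancel_right]
            simpa [mul_assoc] using h1⟩ }
      suffices hW : Y ≤ W from fun w hw => (hW hw).2
      refine h.le_of_comp_le hYN hYi fun e he he1 w hw => ⟨hw.1, ?_⟩
      by_cases hed : e ∈ zpowers d
      · rw [comp_congr (h.zpowers_eq_of_mem hd hd1 he1 hed)] at hw
        have := (mem_comp.mp hw).2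
        rw [← this, mul_inv_cancel_right, mul_inv_cancel]
        exact one_mem _
      · have hwK : w ∈ K := ⟨hw.1, hL2 e he hed hw⟩
        exact mul_mem (hdK w hwK) (inv_mem hwK)
    have hgood : ∀ z ∈ comp S a, ∀ w ∈ Y,
        (z⁻¹ * (d * z * d⁻¹)) * w * (z⁻¹ * (d * z * d⁻¹))⁻¹ * w⁻¹ ∈ K := by
      intro z hz w hw
      set v := d * z * d⁻¹ with hv
      have hvS : v ∈ comp S a := (Subgroup.mem_normalizer_iff.mp (h.comp_inv hSi ha hd) z).mp hz
      have hzw : z * w * z⁻¹ ∈ Y := (Subgroup.mem_normalizer_iff.mp (hSY hz.1) w).mp hw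
      have hvw : v * w * v⁻¹ ∈ Y := (Subgroup.mem_normalizer_iff.mp (hSY hvS.1) w).mp hw
      have hA1 := hdY _ hzw
      have hA2 := hzK v hvS _ (hdY w hw)
      have hA3 : (v * w * v⁻¹) * (z * w * z⁻¹)⁻¹ ∈ K := by
        have he : (v * w * v⁻¹) * (z * w * z⁻¹)⁻¹ = (v * (d * w * d⁻¹ * w⁻¹) * v⁻¹)⁻¹ *
            (d * (z * w * z⁻¹) * d⁻¹ * (z * w * z⁻¹)⁻¹) := by
          rw [hv]; group
        rw [he]; exact mul_mem (inv_mem hA2) hA1
      have hA4 := hzK z⁻¹ (inv_mem hz) _ hA3
      have he : (z⁻¹ * v) * w * (z⁻¹ * v)⁻¹ * w⁻¹ =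
          z⁻¹ * ((v * w * v⁻¹) * (z * w * z⁻¹)⁻¹) * z⁻¹⁻¹ := by group
      rw [he]; exact hA4
    -- every element of the component has this form
    let f : comp S a → comp S a := fun z => ⟨(z : Γ)⁻¹ * (d * z * d⁻¹), mul_mem (inv_mem z.2)
      ((Subgroup.mem_normalizer_iff.mp (h.comp_inv hSi ha hd) z).mp z.2)⟩
    have hf : Function.Injective f := by
      intro z z' hzz
      have h0 : (z : Γ)⁻¹ * (d * z * d⁻¹) = (z' : Γ)⁻¹ * (d * z' * d⁻¹) :=
        congrArg Subtype.val hzz
      have h1 : ((z' : Γ) * (z : Γ)⁻¹) * d = d * ((z' : Γ) * (z : Γ)⁻¹) := by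
        calc ((z' : Γ) * (z : Γ)⁻¹) * d
            = z' * ((z : Γ)⁻¹ * (d * z * d⁻¹)) * (d * (z : Γ)⁻¹) := by group
          _ = z' * ((z' : Γ)⁻¹ * (d * z' * d⁻¹)) * (d * (z : Γ)⁻¹) := by rw [h0]
          _ = d * ((z' : Γ) * (z : Γ)⁻¹) := by group
      have h2 := h.eq_one_of_fixed ha ha1 hd hda (hSN (mul_mem z'.2 (inv_mem z.2)).1)
        (mem_comp.mp (mul_mem z'.2 (inv_mem z.2))).2 h1
      exact Subtype.ext (mul_inv_eq_one.mp h2).symm
    obtain ⟨⟨z, hz⟩, hzx⟩ := (Finite.injective_iff_surjective.mp hf) ⟨x, hx⟩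
    have hzx' : z⁻¹ * (d * z * d⁻¹) = x := congrArg Subtype.val hzx
    have h1 := hgood z hz y hy.1
    rw [hzx'] at h1
    have h2 := Subgroup.inv_mem (centralizer (U : Set Γ)) h1.2
    simpa [hk, mul_assoc] using h2
  -- conclude on `R = [R, Y] C_R(Y)`
  rw [← zpowers_le, le_centralizer_iff, ← hRsplit, sup_le_iff]
  refine ⟨?_, fun r hr => ?_⟩
  · rw [commutator_le]
    intro r hr
    let W : Subgroup Γ :=
      { carrier := {w | w ∈ Y ∧ ∀ r ∈ R, ⁅r, w⁆ ∈ centralizer ((zpowers k : Subgroup Γ) : Set Γ)}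
        one_mem' := ⟨one_mem _, fun r _ => by simp⟩
        mul_mem' := fun {u v} hu hv => ⟨mul_mem hu.1 hv.1, fun r hr => by
          have he : ⁅r, u * v⁆ = ⁅r, u⁆ * (u * ⁅r, v⁆ * u⁻¹) := by
            simp only [commutatorElement_def]; group
          rw [he]
          refine mul_mem (hu.2 r hr) ?_
          have huk : Commute u k := hYab u hu.1 k hkY
          have hrv : Commute ⁅r, v⁆ k :=
            ((mem_centralizer_iff.mp (hv.2 r hr)) k (mem_zpowers k)).symm
          rw [zpowers_eq_closure, centralizer_closure, mem_centralizer_singleton_iff]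
          exact ((huk.mul_left hrv).mul_left huk.inv_left).eq⟩
        inv_mem' := fun {u} hu => ⟨inv_mem hu.1, fun r hr => by
          have he : ⁅r, u⁻¹⁆ = u⁻¹ * ⁅r, u⁆⁻¹ * u := by
            simp only [commutatorElement_def]; group
          rw [he]
          have huk : Commute u k := hYab u hu.1 k hkY
          have hru : Commute ⁅r, u⁆ k :=
            ((mem_centralizer_iff.mp (hu.2 r hr)) k (mem_zpowers k)).symm
          rw [zpowers_eq_closure, centralizer_closure, mem_centralizer_singleton_iff]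
          exact ((huk.inv_left.mul_left hru.inv_left).mul_left huk).eq⟩ }
    suffices hW : Y ≤ W from fun w hw => (hW hw).2 r hr
    refine h.le_of_comp_le hYN hYi fun d hd hd1 w hw => ⟨hw.1, fun r hr => ?_⟩
    rw [zpowers_eq_closure, centralizer_closure, mem_centralizer_singleton_iff]
    exact mem_centralizer_iff.mp (hmain d hd hd1) _ (commutator_mem_commutator hr hw)
  · rw [zpowers_eq_closure, centralizer_closure, mem_centralizer_singleton_iff]
    exact (mem_centralizer_iff.mp hr.2 k hkY).symm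

end Fpf

end H72.AbelianFour
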