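import Cfsg.Agent.H72.AbelianFour.Master
import Cfsg.Agent.H79.CoprimeGen
import Cfsg.Agent.H8.Coprime
import Cfsg.Agent.CompBasic
import Cfsg.Agent.H83.CoprimeAbelian

/-!
A group `A` of exponent `q` and order `q²` acting coprimely and fixed-point-freely with abelian
fixed point subgroups: components, generation, and the centralisation lemmas.
-/

set_option autoImplicit false

open scoped commutatorElement
open Subgroup

namespace H72.AbelianFour

variable {Γ : Type*} [Group Γ]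

/-- `A` is elementary abelian of order `q²` and acts coprimely on `N` without fixed points, the
fixed points of each of its nontrivial elements forming an abelian group. -/
structure Fpf (q : ℕ) (A N : Subgroup Γ) : Prop where
  expo : ∀ a ∈ A, a ^ q = 1
  comm : ∀ a ∈ A, ∀ b ∈ A, a * b = b * a
  card : Nat.card A = q ^ 2
  inv : A ≤ normalizer (N : Set Γ)
  ndvd : ¬ q ∣ Nat.card N
  fixed : N ⊓ centralizer (A : Set Γ) = ⊥
  abel : ∀ a ∈ A, a ≠ 1 → ∀ x ∈ N, ∀ y ∈ N, x * a = a * x → y * a = a * y → x * y = y * x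

/-- The part of `X` fixed by `a`. -/
abbrev comp (X : Subgroup Γ) (a : Γ) : Subgroup Γ := X ⊓ centralizer ({a} : Set Γ)

theorem mem_comp {X : Subgroup Γ} {a x : Γ} : x ∈ comp X a ↔ x ∈ X ∧ x * a = a * x := by
  rw [Subgroup.mem_inf, mem_centralizer_singleton_iff]

variable [Finite Γ] {q : ℕ} [hq : Fact q.Prime] {A N : Subgroup Γ}

namespace Fpf

variable (h : Fpf q A N)
include h

theorem isPGroup : IsPGroup q A := IsPGroup.of_card h.card

theorem not_isCyclic : ¬ IsCyclic A := by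
  intro hc
  obtain ⟨g, hg⟩ := hc.exists_generator
  have h1 : orderOf g = q ^ 2 := by rw [orderOf_eq_card_of_forall_mem_zpowers hg, h.card]
  have h2 : orderOf g ∣ q := orderOf_dvd_of_pow_eq_one (Subtype.ext (h.expo g g.2))
  rw [h1] at h2
  have h3 := Nat.le_of_dvd hq.out.pos h2
  have := hq.out.two_le
  nlinarith

theorem isMulCommutative : IsMulCommutative A :=
  ⟨⟨fun a b => Subtype.ext (h.comm a a.2 b b.2)⟩⟩

theorem comp_inv {X : Subgroup Γ} (hX : A ≤ normalizer (X : Set Γ)) {a : Γ} (ha : a ∈ A) :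
    A ≤ normalizer (comp X a : Set Γ) := by
  refine Subgroup.le_normalizer_iff.mpr fun d hd x hx => ?_
  obtain ⟨hxX, hxa⟩ := mem_comp.mp hx
  refine mem_comp.mpr ⟨(Subgroup.mem_normalizer_iff.mp (hX hd) x).mp hxX, ?_⟩
  have hda : Commute d a := h.comm d hd a ha
  exact ((hda.mul_left hxa).mul_left hda.inv_left).eq

theorem orderOf_eq {a : Γ} (ha : a ∈ A) (ha1 : a ≠ 1) : orderOf a = q :=
  orderOf_eq_prime (h.expo a ha) ha1

theorem card_zpowers {a : Γ} (ha : a ∈ A) (ha1 : a ≠ 1) : Nat.card (zpowers a) = q := by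
  rw [Nat.card_zpowers, h.orderOf_eq ha ha1]

theorem zpowers_eq_of_mem {a b : Γ} (ha : a ∈ A) (ha1 : a ≠ 1) (hb1 : b ≠ 1)
    (hb : b ∈ zpowers a) : zpowers b = zpowers a := by
  have hbA : b ∈ A := zpowers_le.mpr ha hb
  refine Subgroup.eq_of_le_of_card_ge (zpowers_le.mpr hb) ?_
  rw [h.card_zpowers ha ha1, h.card_zpowers hbA hb1]

theorem not_mem_symm {a b : Γ} (ha1 : a ≠ 1) (hb : b ∈ A)
    (hba : b ∉ zpowers a) : a ∉ zpowers b := by
  intro hab
  have hb1 : b ≠ 1 := fun e => hba (e ▸ one_mem _)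
  exact hba (h.zpowers_eq_of_mem hb hb1 ha1 hab ▸ mem_zpowers b)

omit h in
omit [Finite Γ] in
theorem comp_congr {X : Subgroup Γ} {a b : Γ} (hab : zpowers a = zpowers b) :
    comp X a = comp X b := by
  have key : ∀ c : Γ, centralizer ({c} : Set Γ) = centralizer ((zpowers c : Subgroup Γ) : Set Γ) := by
    intro c
    rw [zpowers_eq_closure, centralizer_closure]
  rw [comp, comp, key a, key b, hab]

theorem eq_one_of_fixed {a b x : Γ} (ha : a ∈ A) (ha1 : a ≠ 1) (hb : b ∈ A)
    (hab : b ∉ zpowers a) (hx : x ∈ N) (hxa : x * a = a * x) (hxb : x * b = b * x) : x = 1 := by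
  have hb1 : b ≠ 1 := fun e => hab (e ▸ one_mem _)
  set S := A ⊓ centralizer ({x} : Set Γ) with hS
  have haS : a ∈ S := ⟨ha, mem_centralizer_singleton_iff.mpr hxa.symm⟩
  have hbS : b ∈ S := ⟨hb, mem_centralizer_singleton_iff.mpr hxb.symm⟩
  have hSA : S = A := by
    refine Subgroup.eq_of_le_of_card_ge inf_le_left ?_
    have hlt : zpowers a < S := lt_of_le_of_ne (zpowers_le.mpr haS) fun e => hab (e ▸ hbS)
    have hd : Nat.card S ∣ q ^ 2 := h.card ▸ card_dvd_of_le inf_le_left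
    obtain ⟨i, hi, hc⟩ := (Nat.dvd_prime_pow hq.out).mp hd
    have h1 : q < Nat.card S := by
      rw [← h.card_zpowers ha ha1]
      exact Set.ncard_lt_ncard (SetLike.coe_ssubset_coe.mpr hlt) (Set.toFinite _)
    rw [hc, h.card]
    refine Nat.pow_le_pow_right hq.out.pos ?_
    by_contra hlt2
    have : q ^ i ≤ q ^ 1 := Nat.pow_le_pow_right hq.out.pos (by omega)
    rw [pow_one] at this
    omega
  have : x ∈ N ⊓ centralizer (A : Set Γ) := ⟨hx, mem_centralizer_iff.mpr fun c hc => by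
    exact (mem_centralizer_singleton_iff.mp ((hSA.symm ▸ hc : c ∈ S)).2)⟩
  rwa [h.fixed, Subgroup.mem_bot] at this

theorem comm_comp {X Y : Subgroup Γ} (hX : X ≤ N) (hY : Y ≤ N) {a : Γ} (ha : a ∈ A) (ha1 : a ≠ 1)
    {x y : Γ} (hx : x ∈ comp X a) (hy : y ∈ comp Y a) : x * y = y * x :=
  h.abel a ha ha1 x (hX hx.1) y (hY hy.1) (mem_comp.mp hx).2 (mem_comp.mp hy).2

theorem ndvd_of_le {X : Subgroup Γ} (hX : X ≤ N) : ¬ q ∣ Nat.card X :=
  fun hd => h.ndvd (hd.trans (card_dvd_of_le hX))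

/-- Generation by components. -/
theorem le_of_comp_le {X H : Subgroup Γ} (hX : X ≤ N) (hXi : A ≤ normalizer (X : Set Γ))
    (hH : ∀ a ∈ A, a ≠ 1 → comp X a ≤ H) : X ≤ H := by
  haveI := h.isMulCommutative
  exact H79.le_of_centralizers_le h.expo h.not_isCyclic hXi
    (hq.out.coprime_iff_not_dvd.mpr (h.ndvd_of_le hX)).symm hH

theorem exists_comp_not_le {X H : Subgroup Γ} (hX : X ≤ N) (hXi : A ≤ normalizer (X : Set Γ))
    (hne : ¬ X ≤ H) : ∃ a ∈ A, a ≠ 1 ∧ ¬ comp X a ≤ H := by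
  by_contra hcon
  push Not at hcon
  exact hne (h.le_of_comp_le hX hXi hcon)

/-- An element outside two given lines. -/
theorem exists_third (hq3 : 3 ≤ q) {a b : Γ} (ha : a ∈ A) (hb : b ∈ A) :
    ∃ d ∈ A, d ≠ 1 ∧ d ∉ zpowers a ∧ d ∉ zpowers b := by
  by_contra hcon
  push Not at hcon
  have hsub : (A : Set Γ) ⊆ (zpowers a : Set Γ) ∪ (zpowers b : Set Γ) := by
    intro d hd
    by_cases hd1 : d = 1
    · exact Or.inl (hd1 ▸ one_mem _)
    · by_cases hda : d ∈ zpowers a
      · exact Or.inl hda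
      · exact Or.inr (hcon d hd hd1 hda)
  have h1 := (Set.ncard_le_ncard hsub (Set.toFinite _)).trans (Set.ncard_union_le _ _)
  have hle : ∀ c ∈ A, (zpowers c : Set Γ).ncard ≤ q := by
    intro c hc
    rw [← Nat.card_coe_set_eq]
    change Nat.card (zpowers c) ≤ q
    rw [Nat.card_zpowers]
    exact Nat.le_of_dvd hq.out.pos (orderOf_dvd_of_pow_eq_one (h.expo c hc))
  have hA : (A : Set Γ).ncard = q ^ 2 := by rw [← Nat.card_coe_set_eq]; exact h.card
  have := hle a ha
  have := hle b hb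
  nlinarith

theorem prime_ne {p : ℕ} [Fact p.Prime] {T : Subgroup Γ} (hT : IsPGroup p T) (hTN : T ≤ N)
    (hne : T ≠ ⊥) : q ≠ p := by
  rintro rfl
  obtain ⟨k, hk⟩ := IsPGroup.iff_card.mp hT
  refine h.ndvd_of_le hTN (hk ▸ dvd_pow_self _ fun e => hne ?_)
  rw [e, pow_zero] at hk
  exact Subgroup.card_eq_one.mp hk

/-- A subgroup fixed by `b` centralises a `p`-group if some `c` off the line of `b` has all its
fixed points in the commutator subgroup centralised. -/
theorem centralizes_of_comp {p : ℕ} [Fact p.Prime] {T B : Subgroup Γ} (hT : IsPGroup p T)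
    (hTN : T ≤ N) (hTi : A ≤ normalizer (T : Set Γ)) (hBN : B ≤ N)
    (hBi : A ≤ normalizer (B : Set Γ)) (hBT : B ≤ normalizer (T : Set Γ))
    (hcop : (Nat.card B).Coprime p) {b c : Γ} (hb : b ∈ A) (hb1 : b ≠ 1)
    (hBb : B ≤ centralizer ({b} : Set Γ)) (hc : c ∈ A) (hcb : c ∉ zpowers b)
    (hfix : comp ⁅T, B⁆ c ≤ centralizer (B : Set Γ)) : B ≤ centralizer (T : Set Γ) := by
  by_cases hT0 : T = ⊥
  · subst hT0
    intro x _ y hy
    rw [Subgroup.coe_bot, Set.mem_singleton_iff] at hy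
    rw [hy, one_mul, mul_one]
  have hU : ⁅T, B⁆ ≤ T := H1.commutator_le_left_of_le_normalizer hBT
  have hcopBT : (Nat.card B).Coprime (Nat.card T) := by
    obtain ⟨k, hk⟩ := IsPGroup.iff_card.mp hT
    rw [hk]; exact hcop.pow_right k
  haveI := hT.isNilpotent
  have heq := H1.commutator_commutator_eq hBT hcopBT (Or.inr inferInstance)
  have hmain : B ≤ centralizer ((⁅T, B⁆ : Subgroup Γ) : Set Γ) :=
    master (h.prime_ne hT hTN hT0) (hT.to_le hU) (h.expo c hc)
      (H83.le_normalizer_commutator hTi hBi hc) (hBi hc)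
      H1.right_le_normalizer_commutator H1.right_le_normalizer_commutator hcop hcop heq.ge hfix
      fun x hx hxc => h.eq_one_of_fixed hb hb1 hc hcb (hBN hx)
        (mem_centralizer_singleton_iff.mp (hBb hx)) hxc
  rw [← commutator_eq_bot_iff_le_centralizer, commutator_comm, ← heq,
    commutator_eq_bot_iff_le_centralizer, le_centralizer_iff]
  exact hmain

end Fpf

end H72.AbelianFour
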