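import Cfsg.Agent.H72.AbelianFour.Maximal

/-!
Two Sylow subgroups of a minimal counterexample always lie in a common invariant two-prime
subgroup.
-/

set_option autoImplicit false

open scoped commutatorElement Pointwise
open Subgroup

namespace H72.AbelianFour

variable {Γ : Type*} [Group Γ] [Finite Γ] {q : ℕ} [hq : Fact q.Prime] {A N : Subgroup Γ}

namespace Fpf

variable (h : Fpf q A N)
include h

/-- A commutator lies in a normalised subgroup if it does so on every component. -/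
theorem commutator_le_of_comp {U W H : Subgroup Γ} (hU : U ≤ N)
    (hUi : A ≤ normalizer (U : Set Γ)) (hn : U ≤ normalizer (H : Set Γ))
    (hc : ∀ c ∈ A, c ≠ 1 → ∀ u ∈ comp U c, ∀ w ∈ W, ⁅u, w⁆ ∈ H) : ⁅U, W⁆ ≤ H := by
  let S : Subgroup Γ :=
    { carrier := {u | u ∈ U ∧ ∀ w ∈ W, ⁅u, w⁆ ∈ H}
      one_mem' := ⟨one_mem _, fun w _ => by simp⟩
      mul_mem' := fun {u v} hu hv => ⟨mul_mem hu.1 hv.1, fun w hw => by
        have he : ⁅u * v, w⁆ = u * ⁅v, w⁆ * u⁻¹ * ⁅u, w⁆ := by
          simp only [commutatorElement_def]; group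
        rw [he]
        exact mul_mem ((mem_normalizer_iff.mp (hn hu.1) _).mp (hv.2 w hw)) (hu.2 w hw)⟩
      inv_mem' := fun {u} hu => ⟨inv_mem hu.1, fun w hw => by
        have he : ⁅u⁻¹, w⁆ = u⁻¹ * ⁅u, w⁆⁻¹ * u⁻¹⁻¹ := by
          simp only [commutatorElement_def]; group
        rw [he]
        exact (mem_normalizer_iff.mp (hn (inv_mem hu.1)) _).mp (inv_mem (hu.2 w hw))⟩ }
  have hS : U ≤ S := h.le_of_comp_le hU hUi fun c hcA hc1 u hu => ⟨hu.1, hc c hcA hc1 u hu⟩
  rw [commutator_le]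
  exact fun u hu w hw => (hS hu).2 w hw

end Fpf

namespace Min

variable (h : Min q A N) {p r : ℕ} [hp : Fact p.Prime] [hr : Fact r.Prime] (hpr : p ≠ r)
  (hbad : Bad A N p r)
include h hpr hbad

theorem no_third {M : Subgroup Γ} (hM : IsMaxPR A N p r M) (hR : core p M ≠ ⊥)
    (hL : core r M ≠ ⊥) (h1 : M ≠ MP A N p r) (h2 : M ≠ MP A N r p) : False := by
  have h0 := h.toFpf
  obtain ⟨b, W, hW⟩ := h.exists_central hpr hbad
  obtain ⟨a, V, hV⟩ := h.exists_central hpr.symm hbad.symm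
  obtain ⟨hWM, -, hWc⟩ := hW.step h hpr hbad hM hR hL h2
  obtain ⟨-, -, hVc⟩ := hV.step h hpr.symm hbad.symm hM.symm hL hR h1
  set P := syl A N p with hP
  set Q := syl A N r with hQ
  by_cases hab : b ∈ zpowers a
  swap
  · refine h2 (h.eq_MP_of_syl_le hpr.symm hbad.symm hM.symm ?_)
    refine h0.le_of_comp_le (h0.syl_le r) (h0.syl_inv r) fun c hc hc1 => ?_
    by_cases hcb : c ∈ zpowers b
    · refine (hVc c hc fun hca => hab ?_).1
      rw [← h0.zpowers_eq_of_mem hV.mem hV.ne_one hc1 hca,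
        h0.zpowers_eq_of_mem hW.mem hW.ne_one hc1 hcb]
      exact mem_zpowers b
    · exact (hWc c hc hcb).2.1
  have hline : zpowers b = zpowers a := h0.zpowers_eq_of_mem hV.mem hV.ne_one hW.ne_one hab
  set MPp := MP A N p r with hMPp
  have hmax := h.max_MP hpr hbad
  have hQa : comp Q a ≤ MPp := hV.comp_le h hpr.symm hbad.symm
  have hWQ : W ≤ Q := hW.le_syl h hpr hbad
  have hWN : W ≤ N := hW.le_N h hpr hbad
  have hWa : W ≤ comp Q a :=
    le_inf hWQ (hW.fixed.trans (le_of_eq (by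
      rw [← centralizer_closure, ← zpowers_eq_closure, hline, zpowers_eq_closure,
        centralizer_closure])))
  have hWMP : W ≤ MPp := hWa.trans hQa
  set R := core p M with hRdef
  set U := ⁅R, W⁆ with hUdef
  have hWR : W ≤ normalizer (R : Set Γ) := hWM.trans (self_le_normalizer_core p M)
  have hUR : U ≤ R := H1.commutator_le_left_of_le_normalizer hWR
  have hWp : (Nat.card W).Coprime p := h0.coprime_syl hpr hWQ
  have hcopWR : (Nat.card W).Coprime (Nat.card R) := by
    obtain ⟨k, hk⟩ := IsPGroup.iff_card.mp (isPGroup_core p M)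
    rw [hk]; exact hWp.pow_right k
  haveI := (isPGroup_core p M).isNilpotent
  have hUeq : ⁅U, W⁆ = U := H1.commutator_commutator_eq hWR hcopWR (Or.inr inferInstance)
  have hUi : A ≤ normalizer (U : Set Γ) :=
    H83.le_normalizer_commutator (h0.core_inv p hM.pr) hW.inv
  have hUP : U ≤ P := hUR.trans (h0.core_le_syl p hM.pr)
  set R1 := core p MPp with hR1
  have hWR1 : W ≤ normalizer (R1 : Set Γ) := hWMP.trans (self_le_normalizer_core p _)
  set U1 := ⁅R1, W⁆ with hU1def
  have hU1R : U1 ≤ R1 := H1.commutator_le_left_of_le_normalizer hWR1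
  have hUR1 : U ≤ R1 := h0.le_core_of_eq_commutator hpr hmax.pr
    (le_inf (hUP.trans h.syl_le_MP) hUP) (le_inf hWMP hWQ) hUeq.ge
  have hUU1 : U ≤ U1 := hUeq.ge.trans (commutator_mono hUR1 le_rfl)
  have hR1p : IsPGroup p R1 := isPGroup_core p _
  have hcopWR1 : (Nat.card W).Coprime (Nat.card R1) := by
    obtain ⟨k, hk⟩ := IsPGroup.iff_card.mp hR1p
    rw [hk]; exact hWp.pow_right k
  haveI := hR1p.isNilpotent
  have hU1eq : ⁅U1, W⁆ = U1 := H1.commutator_commutator_eq hWR1 hcopWR1 (Or.inr inferInstance)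
  have hU1i : A ≤ normalizer (U1 : Set Γ) :=
    H83.le_normalizer_commutator (h0.core_inv p hmax.pr) hW.inv
  have hU1P : U1 ≤ P := hU1R.trans (h0.core_le_syl p hmax.pr)
  have hU1N : U1 ≤ N := hU1P.trans (h0.syl_le p)
  -- `U1` lies in `M`
  set H := U1 ⊓ M with hH
  set H' := H ⊔ ⁅U1, U1⁆ with hH'
  have hWU1 : W ≤ normalizer (U1 : Set Γ) := H1.right_le_normalizer_commutator
  have hWH : W ≤ normalizer (H : Set Γ) :=
    H8.le_normalizer_inf hWU1 (hWM.trans Subgroup.le_normalizer)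
  have hH'n : U1 ≤ normalizer (H' : Set Γ) := by
    refine Subgroup.le_normalizer_iff.mpr fun g hg x hx => ?_
    have hxU : x ∈ U1 := (sup_le inf_le_left (commutator_le_self U1) : H' ≤ U1) hx
    have h3 : ⁅g, x⁆ ∈ H' :=
      (le_sup_right : ⁅U1, U1⁆ ≤ H') (commutator_mem_commutator hg hxU)
    have h4 := mul_mem h3 hx
    simpa [commutatorElement_def, mul_assoc] using h4
  have hU1H : U1 ≤ H' := by
    refine hU1eq.ge.trans (h0.commutator_le_of_comp hU1N hU1i hH'n fun c hc hc1 u hu w hw => ?_)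
    by_cases hca : c ∈ zpowers a
    · rw [Fpf.comp_congr (h0.zpowers_eq_of_mem hV.mem hV.ne_one hc1 hca)] at hu
      rw [commutatorElement_eq_one_iff_mul_comm.mpr (h.abel a hV.mem hV.ne_one u (hU1N hu.1) w
        (hWN hw) (mem_comp.mp hu).2 (mem_centralizer_singleton_iff.mp (hWa hw).2))]
      exact one_mem _
    · have hcb : c ∉ zpowers b := hline ▸ hca
      have huM : u ∈ M := (hWc c hc hcb).1 ⟨hU1P hu.1, hu.2⟩
      exact (le_sup_left : H ≤ H') (H1.commutator_le_left_of_le_normalizer hWH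
        (commutator_mem_commutator ⟨hu.1, huM⟩ hw))
  have hHU1 : H = U1 :=
    H11.eq_of_le_sup_commutator (hR1p.to_le hU1R) inf_le_left hU1H
  have hU1M : U1 ≤ M := hHU1 ▸ inf_le_right
  have hU1leR : U1 ≤ R := h0.le_core_of_eq_commutator hpr hM.pr (le_inf hU1M hU1P)
    (le_inf hWM hWQ) hU1eq.ge
  have hEq : U1 = U :=
    le_antisymm (hU1eq.ge.trans (commutator_mono hU1leR le_rfl)) hUU1
  -- the normaliser of `U` lies in `M`
  have hUne : U ≠ ⊥ := by
    intro e
    obtain ⟨c, hc, hc1, hcb, -⟩ := h0.exists_third h.q3 hW.mem hW.mem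
    exact hW.comp_commutator_not_le h hpr hbad (h0.core_le_syl p hM.pr) (h0.core_inv p hM.pr) hWR
      (hW.step h hpr hbad hM hR hL h2).2.1 hc hcb (by rw [show ⁅core p M, W⁆ = ⊥ from e]; exact inf_le_left.trans bot_le)
  set Y := N ⊓ normalizer (U : Set Γ) with hY
  have hYpr := h.isPR_hall (p := p) (r := r) (X := Y) inf_le_left
    (H8.le_normalizer_inf h.inv (le_normalizer_normalizer hUi))
    (h.normalizer_ne (hUP.trans (h0.syl_le p)) hUi hUne
      (h.ne_of_pGroup ((h0.isPGroup_syl p).to_le hUP)))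
  have hYM := h.uniq hpr hM hR hL hYpr
    (h0.le_hall (Fpf.pr_mono hM.pr (core_le p M) (h0.core_inv p hM.pr))
      (le_inf ((core_le p M).trans hM.pr.le) H1.left_le_normalizer_commutator))
    (h0.le_hall (Fpf.pr_mono hM.pr (core_le r M) (h0.core_inv r hM.pr))
      (le_inf ((core_le r M).trans hM.pr.le)
        (((le_centralizer_iff.mp (h0.core_le_centralizer hpr M)).trans
          (centralizer_le hUR)).trans (centralizer_le_normalizer _))))
  refine h2 (h.eq_MP_of_syl_le hpr.symm hbad.symm hM.symm ?_)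
  refine h0.le_of_comp_le (h0.syl_le r) (h0.syl_inv r) fun c hc hc1 => ?_
  by_cases hca : c ∈ zpowers a
  · rw [Fpf.comp_congr (h0.zpowers_eq_of_mem hV.mem hV.ne_one hc1 hca)]
    refine le_trans (h0.le_hall ?_ (le_inf (inf_le_left.trans (h0.syl_le r)) ?_)) hYM
    · exact (Fpf.pr_of_pGroup (inf_le_left.trans (h0.syl_le r))
        (h0.comp_inv (h0.syl_inv r) hV.mem) ((h0.isPGroup_syl r).to_le inf_le_left) :
          IsPR A N r p _).symm
    · rw [← hEq]
      exact H83.le_normalizer_commutator (hQa.trans (self_le_normalizer_core p _))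
        ((inf_le_left.trans hW.central).trans (centralizer_le_normalizer _))
  · exact (hWc c hc (hline ▸ hca)).2.1

theorem le_MP_or {M : Subgroup Γ} (hM : IsPR A N p r M) :
    M ≤ MP A N p r ∨ M ≤ MP A N r p := by
  obtain ⟨M', hM', hle⟩ := Fpf.exists_max_ge hM
  by_cases hL : core r M' = ⊥
  · exact Or.inl (h.eq_MP_of_core_eq_bot hpr hbad hM' hL ▸ hle)
  by_cases hR : core p M' = ⊥
  · exact Or.inr (h.eq_MP_of_core_eq_bot hpr.symm hbad.symm hM'.symm hR ▸ hle)
  by_contra hcon
  push Not at hcon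
  exact h.no_third hpr hbad hM' hR hL (fun e => hcon.1 (e ▸ hle)) (fun e => hcon.2 (e ▸ hle))

theorem case_two (h1 : core r (MP A N p r) ≠ ⊥) (h2 : core p (MP A N r p) ≠ ⊥) : False := by
  have h0 := h.toFpf
  obtain ⟨b, W, hW⟩ := h.exists_central hpr hbad
  obtain ⟨a, V, hV⟩ := h.exists_central hpr.symm hbad.symm
  obtain ⟨d, hd, -, hda, hdb⟩ := h0.exists_third h.q3 hV.mem hW.mem
  have hA := ((hW.step h hpr hbad (h.max_MP hpr hbad) (h.core_MP_ne_bot hpr hbad) h1
    (h.MP_ne hbad)).2.2 d hd hdb).2.1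
  exact ((hV.step h hpr.symm hbad.symm (h.max_MP hpr.symm hbad.symm)
    (h.core_MP_ne_bot hpr.symm hbad.symm) h2 (h.MP_ne hbad.symm)).2.2 d hd hda).2.2 hA

theorem case_three (h1 : core r (MP A N p r) = ⊥) (h2 : core p (MP A N r p) ≠ ⊥) : False := by
  have h0 := h.toFpf
  obtain ⟨b, W, hW⟩ := h.exists_central hpr hbad
  obtain ⟨a, V, hV⟩ := h.exists_central hpr.symm hbad.symm
  set P := syl A N p with hP
  set Q := syl A N r with hQ
  set M := MP A N p r with hMdef
  set M' := MP A N r p with hM'def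
  have hmax := h.max_MP hpr hbad
  have hmax' : IsMaxPR A N p r M' := (h.max_MP hpr.symm hbad.symm).symm
  have hL'ne : core r M' ≠ ⊥ := h.core_MP_ne_bot hpr.symm hbad.symm
  obtain ⟨-, -, hVc⟩ := hV.step h hpr.symm hbad.symm (h.max_MP hpr.symm hbad.symm) hL'ne h2
    (h.MP_ne hbad.symm)
  have hPnot : ¬ P ≤ M' := h.not_syl_le_MP hbad.symm
  have hPb : comp P b ≤ M' := hW.comp_le h hpr hbad
  have hab : a ∉ zpowers b := by
    intro hab
    refine hPnot (h0.le_of_comp_le (h0.syl_le p) (h0.syl_inv p) fun c hc hc1 => ?_)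
    by_cases hca : c ∈ zpowers a
    · refine (Fpf.comp_congr ?_).le.trans hPb
      rw [h0.zpowers_eq_of_mem hV.mem hV.ne_one hc1 hca,
        h0.zpowers_eq_of_mem hW.mem hW.ne_one hV.ne_one hab]
    · exact (hVc c hc hca).2.1
  have hMP : M ≤ normalizer (P : Set Γ) := by
    have := h0.syl_normal_of_core_eq_bot hpr M hmax.pr h1
    rwa [inf_eq_right.mpr h.syl_le_MP] at this
  have hPpr : IsPR A N p r P :=
    Fpf.pr_of_pGroup (h0.syl_le p) (h0.syl_inv p) (h0.isPGroup_syl p)
  have hWM : ¬ W ≤ M := by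
    intro hle
    by_cases hc : W ≤ centralizer (P : Set Γ)
    · exact hPnot (hW.le_MP_of_centralizes h hpr hbad hPpr (le_centralizer_iff.mp hc))
    obtain ⟨d, hd, -, hda, hdb⟩ := h0.exists_third h.q3 hV.mem hW.mem
    exact hW.comp_commutator_not_le h hpr hbad le_rfl (h0.syl_inv p) (hle.trans hMP) hc hd hdb
      ((inf_le_inf_right _ (H1.commutator_le_left_of_le_normalizer (hle.trans hMP))).trans
        (hVc d hd hda).2.1)
  set Q1 := M ⊓ Q with hQ1
  have hQ1i : A ≤ normalizer (Q1 : Set Γ) := h0.inf_syl_inv r hmax.pr.inv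
  have hQ1N : Q1 ≤ N := inf_le_right.trans (h0.syl_le r)
  have hWQ : W ≤ Q := hW.le_syl h hpr hbad
  have hWpr : IsPR A N p r W := (Fpf.pr_of_pGroup (hW.le_N h hpr hbad) hW.inv
    ((h0.isPGroup_syl r).to_le hWQ) : IsPR A N r p W).symm
  -- centralisers of subgroups of `Q1`
  have hCT : ∀ T ≤ Q1, A ≤ normalizer (T : Set Γ) → T ≠ ⊥ →
      P ⊓ centralizer (T : Set Γ) ≤ M' := by
    intro T hT hTi hTne
    have hTQ : T ≤ Q := hT.trans inf_le_right
    have hC := h.isPR_hall (p := p) (r := r) (X := N ⊓ centralizer (T : Set Γ)) inf_le_left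
      (h.centralizer_inv hTi) (h.centralizer_ne (hTQ.trans (h0.syl_le r)) hTi hTne
        (h.ne_of_pGroup ((h0.isPGroup_syl r).to_le hTQ)))
    have hWC := h0.le_hall hWpr (le_inf hWpr.le
      ((le_centralizer_iff.mp (hTQ.trans hW.central))))
    rcases h.le_MP_or hpr hbad hC with hle | hle
    · exact absurd (hWC.trans hle) hWM
    · refine (h0.le_hall (p := p) (r := r) (Fpf.pr_mono hPpr inf_le_left ?_)
        (le_inf (inf_le_left.trans (h0.syl_le p)) inf_le_right)).trans hle
      exact H8.le_normalizer_inf (h0.syl_inv p)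
        (H8.le_normalizer_centralizer_of_le_normalizer hTi)
  have hQ1P : Q1 ≤ normalizer (P : Set Γ) := inf_le_left.trans hMP
  have hfaith : Q1 ⊓ centralizer (P : Set Γ) = ⊥ := by
    rw [eq_bot_iff, ← h1]
    refine le_trans ?_ (h0.le_core_of_centralizes hpr hmax.pr)
    exact inf_le_inf_left _ (centralizer_le (h0.core_le_syl p hmax.pr))
  have hQ1M' : Q1 ≤ M' := inf_le_right.trans h.syl_le_MP
  by_cases hQ1ne : Q1 = ⊥
  · -- `M` is the Sylow `p`-subgroup
    have hMeq : M ≤ P :=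
      h0.pr_le_sup hmax.pr inf_le_right (by rw [← hQ1, hQ1ne]; exact bot_le)
    have hQa : comp Q a ≤ ⊥ := hQ1ne ▸ le_inf (hV.comp_le h hpr.symm hbad.symm) inf_le_left
    set R' := core p M' with hR'
    set L' := core r M' with hL'
    set P1 := P ⊓ M' with hP1
    have hP1i : A ≤ normalizer (P1 : Set Γ) := H8.le_normalizer_inf (h0.syl_inv p) hmax'.pr.inv
    have hP1N : P1 ≤ N := inf_le_left.trans (h0.syl_le p)
    have hcomp : ∀ c ∈ A, c ≠ 1 → c ∉ zpowers a → comp P c ≤ R' := by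
      intro c hc hc1 hca
      have hPc : comp P c ≤ M' := (hVc c hc hca).2.1
      have hPcL : comp P c ≤ normalizer (L' : Set Γ) := hPc.trans (self_le_normalizer_core r M')
      have hcen : comp P c ≤ centralizer (L' : Set Γ) := by
        refine h0.centralizes_of_comp (isPGroup_core r M') ((core_le r M').trans hmax'.pr.le)
          (h0.core_inv r hmax'.pr) (inf_le_left.trans (h0.syl_le p))
          (h0.comp_inv (h0.syl_inv p) hc) hPcL (h0.coprime_syl hpr.symm inf_le_left) hc hc1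
          inf_le_right hV.mem (h0.not_mem_symm hV.ne_one hc hca) ?_
        refine (inf_le_inf_right _ ((H1.commutator_le_left_of_le_normalizer hPcL).trans
          (h0.core_le_syl r hmax'.pr))).trans (hQa.trans bot_le)
      exact (le_inf (le_inf hPc inf_le_left) hcen).trans
        (h0.le_core_of_centralizes hpr.symm hmax'.pr.symm)
    have hR'P1 : R' ≤ P1 := le_inf (h0.core_le_syl p hmax'.pr) (core_le p M')
    set E := zpowers a with hE
    have hEA : E ≤ A := zpowers_le.mpr hV.mem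
    set D := ⁅P1, E⁆ with hD
    have hEP1 : E ≤ normalizer (P1 : Set Γ) := hEA.trans hP1i
    have hDR' : D ≤ R' := by
      refine h0.commutator_le_of_comp hP1N hP1i
        (inf_le_right.trans (self_le_normalizer_core p M')) fun c hc hc1 u hu w hw => ?_
      by_cases hca : c ∈ zpowers a
      · rw [Fpf.comp_congr (h0.zpowers_eq_of_mem hV.mem hV.ne_one hc1 hca)] at hu
        obtain ⟨i, rfl⟩ := mem_zpowers_iff.mp hw
        rw [commutatorElement_eq_one_iff_mul_comm.mpr
          ((show Commute u a from (mem_comp.mp hu).2).zpow_right i).eq]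
        exact one_mem _
      · have huR : u ∈ R' := hcomp c hc hc1 hca ⟨hu.1.1, hu.2⟩
        exact H1.commutator_le_left_of_le_normalizer (hEA.trans (h0.core_inv p hmax'.pr))
          (commutator_mem_commutator huR hw)
    have hDne : D ≠ ⊥ := by
      intro e
      refine h.not_le_centralizer (h.syl_ne_bot hbad) hV.mem hV.ne_one ?_
      refine h0.le_of_comp_le (h0.syl_le p) (h0.syl_inv p) fun c hc hc1 => ?_
      by_cases hca : c ∈ zpowers a
      · exact (Fpf.comp_congr (h0.zpowers_eq_of_mem hV.mem hV.ne_one hc1 hca)).le.trans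
          inf_le_right
      · rw [hD, commutator_eq_bot_iff_le_centralizer, hE, zpowers_eq_closure,
          centralizer_closure] at e
        exact ((hcomp c hc hc1 hca).trans hR'P1).trans e
    have hDi : A ≤ normalizer (D : Set Γ) := by
      refine H83.le_normalizer_commutator hP1i fun g hg => ?_
      refine mem_normalizer_iff.mpr fun x => ?_
      constructor
      · intro hx
        rwa [show g * x * g⁻¹ = x by rw [h.comm g hg x (hEA hx), mul_inv_cancel_right]]
      · intro hx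
        have hxA : x ∈ A := by
          have := mul_mem (mul_mem (inv_mem hg) (hEA hx)) hg
          simpa [mul_assoc] using this
        rwa [show g * x * g⁻¹ = x by rw [h.comm g hg x hxA, mul_inv_cancel_right]] at hx
    have hP1lt : P1 < P := lt_of_le_of_ne inf_le_left fun e => hPnot (e ▸ inf_le_right)
    set NP := P ⊓ normalizer (P1 : Set Γ) with hNP
    have hNPi : A ≤ normalizer (NP : Set Γ) :=
      H8.le_normalizer_inf (h0.syl_inv p) (le_normalizer_normalizer hP1i)
    obtain ⟨e, he, he1, heP⟩ := h0.exists_comp_not_le (inf_le_left.trans (h0.syl_le p)) hNPi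
      (H1.isPGroup_sup_lt_normalizer (h0.isPGroup_syl p) hP1lt).not_ge
    have hea : e ∈ zpowers a := by
      by_contra hea
      exact heP ((inf_le_inf_right _ inf_le_left).trans ((hcomp e he he1 hea).trans hR'P1))
    rw [Fpf.comp_congr (h0.zpowers_eq_of_mem hV.mem hV.ne_one he1 hea)] at heP
    apply heP
    refine le_inf (inf_le_left.trans inf_le_left) ?_
    have hYpr := h.isPR_hall (p := p) (r := r) (X := N ⊓ normalizer (D : Set Γ)) inf_le_left
      (H8.le_normalizer_inf h.inv (le_normalizer_normalizer hDi))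
      (h.normalizer_ne (hDR'.trans ((core_le p M').trans hmax'.pr.le)) hDi hDne
        (h.ne_of_pGroup ((isPGroup_core p M').to_le hDR')))
    have hYM := h.uniq hpr hmax' h2 hL'ne hYpr
      (h0.le_hall (Fpf.pr_mono hmax'.pr (core_le p M') (h0.core_inv p hmax'.pr))
        (le_inf ((core_le p M').trans hmax'.pr.le)
          (hR'P1.trans H1.left_le_normalizer_commutator)))
      (h0.le_hall (Fpf.pr_mono hmax'.pr (core_le r M') (h0.core_inv r hmax'.pr))
        (le_inf ((core_le r M').trans hmax'.pr.le)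
          (((le_centralizer_iff.mp (h0.core_le_centralizer hpr M')).trans
            (centralizer_le hDR')).trans (centralizer_le_normalizer _))))
    refine le_trans (h0.le_hall (Fpf.pr_mono hPpr (inf_le_left.trans inf_le_left)
      (h0.comp_inv hNPi hV.mem)) (le_inf ((inf_le_left.trans inf_le_left).trans (h0.syl_le p))
      ?_)) hYM
    refine H83.le_normalizer_commutator (inf_le_left.trans inf_le_right) fun g hg => ?_
    rw [hE, zpowers_eq_closure]
    refine centralizer_le_normalizer _ ?_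
    rw [centralizer_closure, mem_centralizer_singleton_iff]
    exact (mem_comp.mp hg).2
  -- `Q1` nontrivial
  have hQ1ab : ∀ x ∈ Q1, ∀ y ∈ Q1, x * y = y * x := by
    intro x hx y hy
    have hxy : ⁅x, y⁆ ∈ Q1 ⊓ centralizer (P : Set Γ) :=
      ⟨commutator_le_self Q1 (commutator_mem_commutator hx hy),
        h0.derived_centralizes hpr.symm ((h0.isPGroup_syl r).to_le inf_le_right) hQ1N hQ1i P
          (h0.isPGroup_syl p) (h0.syl_le p) (h0.syl_inv p) hQ1P (commutator_mem_commutator hx hy)⟩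
    rw [hfaith, Subgroup.mem_bot] at hxy
    exact commutatorElement_eq_one_iff_mul_comm.mp hxy
  obtain ⟨e, he, he1, heQ⟩ := h0.exists_comp_not_le (H := ⊥) hQ1N hQ1i
    fun hle => hQ1ne (le_bot_iff.mp hle)
  have hTne : comp Q1 e ≠ ⊥ := fun e' => heQ e'.le
  have hsplit : ∀ B ≤ Q1, A ≤ normalizer (B : Set Γ) →
      P ≤ ⁅P, B⁆ ⊔ (P ⊓ centralizer (B : Set Γ)) := by
    intro B hB hBi
    have hcop : (Nat.card B).Coprime (Nat.card P) := by
      obtain ⟨k, hk⟩ := IsPGroup.iff_card.mp (h0.isPGroup_syl p)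
      rw [hk]; exact (h0.coprime_syl hpr (hB.trans inf_le_right)).pow_right k
    haveI := (h0.isPGroup_syl p).isNilpotent
    exact (H1.commutator_sup_centralizer_eq (hB.trans hQ1P) hcop (Or.inr inferInstance)).ge
  have honly : ∀ c ∈ A, c ≠ 1 → c ∉ zpowers e → comp Q1 c = ⊥ := by
    intro c hc hc1 hce
    by_contra hne
    refine hPnot ((hsplit _ inf_le_left (h0.comp_inv hQ1i he)).trans (sup_le ?_
      (hCT _ inf_le_left (h0.comp_inv hQ1i he) hTne)))
    have hT : comp Q1 c ≤ normalizer ((⁅P, comp Q1 e⁆ : Subgroup Γ) : Set Γ) :=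
      H83.le_normalizer_commutator (inf_le_left.trans hQ1P) fun g hg =>
        centralizer_le_normalizer _ (mem_centralizer_iff.mpr fun u hu => hQ1ab u hu.1 g hg.1)
    have hcen := h0.centralizes_commutator (h0.isPGroup_syl p) (h0.syl_le p) (h0.syl_inv p)
      (inf_le_left.trans hQ1N) (h0.comp_inv hQ1i he) (inf_le_left.trans hQ1P)
      (h0.coprime_syl hpr (inf_le_left.trans inf_le_right)) (inf_le_left.trans hQ1N)
      (h0.comp_inv hQ1i hc) hT (h0.coprime_syl hpr (inf_le_left.trans inf_le_right)) he he1 hc hce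
      inf_le_right inf_le_right
    refine le_trans (le_inf (H1.commutator_le_left_of_le_normalizer (inf_le_left.trans hQ1P)) ?_)
      (hCT _ inf_le_left (h0.comp_inv hQ1i hc) hne)
    exact le_centralizer_iff.mp hcen
  have hQ1e : Q1 ≤ centralizer ({e} : Set Γ) := by
    refine h0.le_of_comp_le hQ1N hQ1i fun c hc hc1 => ?_
    by_cases hce : c ∈ zpowers e
    · exact (Fpf.comp_congr (h0.zpowers_eq_of_mem he he1 hc1 hce)).le.trans inf_le_right
    · rw [honly c hc hc1 hce]; exact bot_le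
  have hQ1e' : ∀ x ∈ Q1, x * e = e * x := fun x hx => mem_centralizer_singleton_iff.mp (hQ1e hx)
  by_cases hea : e ∈ zpowers a
  · refine hPnot (h0.le_of_comp_le (h0.syl_le p) (h0.syl_inv p) fun c hc hc1 => ?_)
    by_cases hca : c ∈ zpowers a
    · refine (le_inf inf_le_left ?_).trans (hCT Q1 le_rfl hQ1i hQ1ne)
      refine le_trans (Fpf.comp_congr ((h0.zpowers_eq_of_mem hV.mem hV.ne_one hc1 hca).trans
        (h0.zpowers_eq_of_mem hV.mem hV.ne_one he1 hea).symm)).le ?_
      intro x hx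
      exact mem_centralizer_iff.mpr fun y hy => h.abel e he he1 y (hQ1N hy) x
        (h0.syl_le p hx.1) (hQ1e' y hy) (mem_comp.mp hx).2
    · exact (hVc c hc hca).2.1
  -- the operator `a` is trivial on `P` modulo `N0`
  set P1 := P ⊓ M' with hP1
  set N0 := P1 ⊔ ⁅P, P⁆ with hN0
  have hP1i : A ≤ normalizer (P1 : Set Γ) := H8.le_normalizer_inf (h0.syl_inv p) hmax'.pr.inv
  have hN0P : N0 ≤ P := sup_le inf_le_left (commutator_le_self P)
  have hN0n : P ≤ normalizer (N0 : Set Γ) := by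
    refine Subgroup.le_normalizer_iff.mpr fun g hg x hx => ?_
    have h3 : ⁅g, x⁆ ∈ N0 :=
      (le_sup_right : ⁅P, P⁆ ≤ N0) (commutator_mem_commutator hg (hN0P hx))
    have h4 := mul_mem h3 hx
    simpa [commutatorElement_def, mul_assoc] using h4
  have hnormN0 : ∀ B : Subgroup Γ, B ≤ normalizer (P : Set Γ) → B ≤ normalizer (M' : Set Γ) →
      B ≤ normalizer (N0 : Set Γ) := by
    intro B hB hB' g hg
    rw [mem_normalizer_iff_map_conj_eq, hN0, Subgroup.map_sup,
      mem_normalizer_iff_map_conj_eq.mp (H8.le_normalizer_inf hB hB' hg),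
      mem_normalizer_iff_map_conj_eq.mp (H83.le_normalizer_commutator hB hB hg)]
  have hAN0 := hnormN0 A (h0.syl_inv p) hmax'.pr.inv
  have hQN0 := hnormN0 Q1 hQ1P (hQ1M'.trans Subgroup.le_normalizer)
  have hPE : ⁅P, zpowers a⁆ ≤ N0 := by
    refine h0.commutator_le_of_comp (h0.syl_le p) (h0.syl_inv p) hN0n
      fun c hc hc1 u hu w hw => ?_
    by_cases hca : c ∈ zpowers a
    · rw [Fpf.comp_congr (h0.zpowers_eq_of_mem hV.mem hV.ne_one hc1 hca)] at hu
      obtain ⟨i, rfl⟩ := mem_zpowers_iff.mp hw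
      rw [commutatorElement_eq_one_iff_mul_comm.mpr
        ((show Commute u a from (mem_comp.mp hu).2).zpow_right i).eq]
      exact one_mem _
    · have huN : u ∈ N0 := (le_sup_left : P1 ≤ N0) ⟨hu.1, (hVc c hc hca).2.1 hu⟩
      exact H1.commutator_le_left_of_le_normalizer ((zpowers_le.mpr hV.mem).trans hAN0)
        (commutator_mem_commutator huN hw)
  have hae : a ∉ zpowers e := fun hae => hea
    (h0.zpowers_eq_of_mem he he1 hV.ne_one hae ▸ mem_zpowers e)
  let f : Q1 → Q1 := fun t => ⟨(t : Γ) * (a * (t : Γ)⁻¹ * a⁻¹), mul_mem t.2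
    ((mem_normalizer_iff.mp (hQ1i hV.mem) _).mp (inv_mem t.2))⟩
  have hf : Function.Injective f := by
    intro s t hst
    have h3 : (s : Γ) * (a * (s : Γ)⁻¹ * a⁻¹) = t * (a * (t : Γ)⁻¹ * a⁻¹) :=
      congrArg Subtype.val hst
    have h4 : ((t : Γ)⁻¹ * s) * a = a * ((t : Γ)⁻¹ * s) := by
      calc ((t : Γ)⁻¹ * s) * a
          = (t : Γ)⁻¹ * ((s : Γ) * (a * (s : Γ)⁻¹ * a⁻¹)) * (a * s) := by group
        _ = (t : Γ)⁻¹ * ((t : Γ) * (a * (t : Γ)⁻¹ * a⁻¹)) * (a * s) := by rw [h3]
        _ = a * ((t : Γ)⁻¹ * s) := by group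
    exact Subtype.ext (inv_mul_eq_one.mp (h0.eq_one_of_fixed he he1 hV.mem hae
      (hQ1N (mul_mem (inv_mem t.2) s.2)) (hQ1e' _ (mul_mem (inv_mem t.2) s.2)) h4)).symm
  have hPT : ⁅P, Q1⁆ ≤ N0 := by
    rw [commutator_le]
    intro x hx t ht
    obtain ⟨s, hs⟩ := (Finite.injective_iff_surjective.mp hf) ⟨t, ht⟩
    have hts : (s : Γ) * (a * (s : Γ)⁻¹ * a⁻¹) = t := congrArg Subtype.val hs
    set g := (s : Γ) * a * (s : Γ)⁻¹ with hg
    have htg : t = g * a⁻¹ := by rw [← hts, hg]; group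
    have hgx : ⁅x, g⁆ ∈ N0 := by
      have hx' : (s : Γ)⁻¹ * x * s ∈ P := (mem_normalizer_iff''.mp (hQ1P s.2) x).mp hx
      have h3 := (mem_normalizer_iff.mp (hQN0 s.2) _).mp
        (hPE (commutator_mem_commutator hx' (mem_zpowers a)))
      have he' : ⁅x, g⁆ = (s : Γ) * ⁅(s : Γ)⁻¹ * x * s, a⁆ * (s : Γ)⁻¹ := by
        simp only [hg, commutatorElement_def]; group
      rw [he']; exact h3
    have hgN : g ∈ normalizer (N0 : Set Γ) :=
      mul_mem (mul_mem (hQN0 s.2) (hAN0 hV.mem)) (inv_mem (hQN0 s.2))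
    have h5 := hPE (commutator_mem_commutator hx (inv_mem (mem_zpowers a)))
    have he' : ⁅x, g * a⁻¹⁆ = ⁅x, g⁆ * (g * ⁅x, a⁻¹⁆ * g⁻¹) := by
      simp only [commutatorElement_def]; group
    rw [htg, he']
    exact mul_mem hgx ((mem_normalizer_iff.mp hgN _).mp h5)
  have hPN0 : P ≤ N0 := (hsplit Q1 le_rfl hQ1i).trans (sup_le hPT
    ((le_inf inf_le_left (hCT Q1 le_rfl hQ1i hQ1ne)).trans le_sup_left))
  exact hPnot ((H11.eq_of_le_sup_commutator (h0.isPGroup_syl p) inf_le_left hPN0).ge.trans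
    inf_le_right)

/-- With both cores for the other prime trivial: a component of the subgroup over one Sylow
subgroup forces components of that Sylow subgroup out of the other maximal subgroup. -/
theorem comp_not_le (h1 : core r (MP A N p r) = ⊥) (h2 : core p (MP A N r p) = ⊥) {c : Γ}
    (hc : c ∈ A) (hc1 : c ≠ 1) (hT : comp (MP A N p r ⊓ syl A N r) c ≠ ⊥) {d : Γ} (hd : d ∈ A)
    (hdc : d ∉ zpowers c) : ¬ comp (syl A N p) d ≤ MP A N r p := by
  intro hle
  have h0 := h.toFpf
  have hmax := h.max_MP hpr hbad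
  set P := syl A N p with hP
  set Q := syl A N r with hQ
  set M := MP A N p r with hM
  set M' := MP A N r p with hM'
  have hMP : M ≤ normalizer (P : Set Γ) := by
    have := h0.syl_normal_of_core_eq_bot hpr M hmax.pr h1
    rwa [inf_eq_right.mpr h.syl_le_MP] at this
  have hM'Q : M' ≤ normalizer (Q : Set Γ) := by
    have := h0.syl_normal_of_core_eq_bot hpr.symm M' (h.max_MP hpr.symm hbad.symm).pr h2
    rwa [inf_eq_right.mpr h.syl_le_MP] at this
  set T := comp (M ⊓ Q) c with hTdef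
  have hTM : T ≤ M := inf_le_left.trans inf_le_left
  have hTQ : T ≤ Q := inf_le_left.trans inf_le_right
  have hTi : A ≤ normalizer (T : Set Γ) := h0.comp_inv (h0.inf_syl_inv r hmax.pr.inv) hc
  apply hT
  rw [eq_bot_iff, ← h1]
  refine le_trans (le_inf inf_le_left ?_) (h0.le_core_of_centralizes hpr hmax.pr)
  refine le_trans ?_ (centralizer_le (h0.core_le_syl p hmax.pr))
  refine h0.centralizes_of_comp (h0.isPGroup_syl p) (h0.syl_le p) (h0.syl_inv p)
    (hTQ.trans (h0.syl_le r)) hTi (hTM.trans hMP) (h0.coprime_syl hpr hTQ) hc hc1 inf_le_right hd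
    hdc fun u hu => mem_centralizer_iff.mpr fun t ht => ?_
  have huP : u ∈ P := H1.commutator_le_left_of_le_normalizer (hTM.trans hMP) hu.1
  have huM' : u ∈ M' := hle ⟨huP, hu.2⟩
  have hut : ⁅u, t⁆ ∈ P ⊓ Q := by
    refine ⟨H1.commutator_le_left_of_le_normalizer (hTM.trans hMP)
      (commutator_mem_commutator huP ht), ?_⟩
    exact Q.mul_mem ((mem_normalizer_iff.mp (hM'Q huM') t).mp (hTQ ht)) (Q.inv_mem (hTQ ht))
  rw [commutator_inf_eq_bot hpr (h0.isPGroup_syl p) (h0.isPGroup_syl r), Subgroup.mem_bot,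
    commutatorElement_eq_one_iff_mul_comm] at hut
  exact hut.symm

/-- The hall subgroup of the centraliser of a component. -/
theorem comp_split {d : Γ} (hd : d ∈ A) (hd1 : d ≠ 1) :
    (comp (syl A N p) d = ⊥) ∨
      (comp (syl A N p) d ≤ MP A N p r ∧ comp (syl A N r) d ≤ MP A N p r) ∨
      (comp (syl A N p) d ≤ MP A N r p ∧ comp (syl A N r) d ≤ MP A N r p) := by
  have h0 := h.toFpf
  by_cases hne : comp (syl A N p) d = ⊥
  · exact Or.inl hne
  refine Or.inr ?_
  set T := comp (syl A N p) d with hT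
  have hTi : A ≤ normalizer (T : Set Γ) := h0.comp_inv (h0.syl_inv p) hd
  have hTN : T ≤ N := inf_le_left.trans (h0.syl_le p)
  have hC := h.isPR_hall (p := p) (r := r) (X := N ⊓ centralizer (T : Set Γ)) inf_le_left
    (h.centralizer_inv hTi) (h.centralizer_ne hTN hTi hne
      (h.ne_of_pGroup ((h0.isPGroup_syl p).to_le inf_le_left)))
  have h3 : T ≤ hall A N p r (N ⊓ centralizer (T : Set Γ)) := by
    refine h0.le_hall (Fpf.pr_of_pGroup hTN hTi ((h0.isPGroup_syl p).to_le inf_le_left))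
      (le_inf hTN fun x hx => mem_centralizer_iff.mpr fun y hy =>
        h0.comm_comp (h0.syl_le p) (h0.syl_le p) hd hd1 hy hx)
  have h4 : comp (syl A N r) d ≤ hall A N p r (N ⊓ centralizer (T : Set Γ)) := by
    refine h0.le_hall (Fpf.pr_of_pGroup (inf_le_left.trans (h0.syl_le r))
      (h0.comp_inv (h0.syl_inv r) hd) ((h0.isPGroup_syl r).to_le inf_le_left) :
        IsPR A N r p _).symm (le_inf (inf_le_left.trans (h0.syl_le r))
      fun x hx => mem_centralizer_iff.mpr fun y hy =>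
        h0.comm_comp (h0.syl_le p) (h0.syl_le r) hd hd1 hy hx)
  rcases h.le_MP_or hpr hbad hC with hle | hle
  · exact Or.inl ⟨h3.trans hle, h4.trans hle⟩
  · exact Or.inr ⟨h3.trans hle, h4.trans hle⟩

theorem case_four_one (h1 : core r (MP A N p r) = ⊥) (h2 : core p (MP A N r p) = ⊥) {c : Γ}
    (hc : c ∈ A) (hc1 : c ≠ 1) (hT : comp (MP A N p r ⊓ syl A N r) c ≠ ⊥)
    (hP1 : MP A N r p ⊓ syl A N p = ⊥) : False := by
  have h0 := h.toFpf
  set M := MP A N p r
  set Q := syl A N r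
  have key : ∀ c' ∈ A, c' ≠ 1 → comp (M ⊓ Q) c' ≠ ⊥ → ∀ d ∈ A, d ∉ zpowers c' →
      comp Q d ≤ M := by
    intro c' hc' hc1' hT' d hd hdc
    have hd1 : d ≠ 1 := fun e => hdc (e ▸ one_mem _)
    have hnle := h.comp_not_le hpr hbad h1 h2 hc' hc1' hT' hd hdc
    rcases h.comp_split hpr hbad hd hd1 with e | ⟨-, h4⟩ | ⟨h3, -⟩
    · exact absurd (by rw [e]; exact bot_le) hnle
    · exact h4
    · exact absurd h3 hnle
  have hnot : ¬ Q ≤ M := h.not_syl_le_MP hbad
  refine h.not_le_centralizer (p := r) (h.syl_ne_bot hbad.symm) hc hc1 ?_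
  refine h0.le_of_comp_le (h0.syl_le r) (h0.syl_inv r) fun d hd hd1 => ?_
  by_cases hdc : d ∈ zpowers c
  · exact (Fpf.comp_congr (h0.zpowers_eq_of_mem hc hc1 hd1 hdc)).le.trans inf_le_right
  by_cases hQd : comp Q d = ⊥
  · rw [hQd]; exact bot_le
  exfalso
  have hTd : comp (M ⊓ Q) d ≠ ⊥ := by
    intro e
    apply hQd
    rw [eq_bot_iff, ← e]
    exact le_inf (le_inf (key c hc hc1 hT d hd hdc) inf_le_left) inf_le_right
  refine hnot (h0.le_of_comp_le (h0.syl_le r) (h0.syl_inv r) fun d' hd' hd1' => ?_)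
  by_cases hd'c : d' ∈ zpowers c
  · refine key d hd hd1 hTd d' hd' fun hd'd => hdc ?_
    rw [← h0.zpowers_eq_of_mem hc hc1 hd1' hd'c, h0.zpowers_eq_of_mem hd hd1 hd1' hd'd]
    exact mem_zpowers d
  · exact key c hc hc1 hT d' hd' hd'c

theorem case_four_bot (hp2 : p ≠ 2) (hQ1 : MP A N p r ⊓ syl A N r = ⊥)
    (hP1 : MP A N r p ⊓ syl A N p = ⊥) : False := by
  have h0 := h.toFpf
  obtain ⟨e, he, he1, hline⟩ := h.exists_line_moving hp2 (h.syl_ne_bot hbad)
  refine h.not_le_centralizer (p := r) (h.syl_ne_bot hbad.symm) he he1 ?_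
  refine h0.le_of_comp_le (h0.syl_le r) (h0.syl_inv r) fun d hd hd1 => ?_
  by_cases hde : d ∈ zpowers e
  · exact (Fpf.comp_congr (h0.zpowers_eq_of_mem he he1 hd1 hde)).le.trans inf_le_right
  rcases h.comp_split hpr hbad hd hd1 with e' | ⟨-, h4⟩ | ⟨h3, -⟩
  · exact absurd e' (hline d hd hde)
  · exact (le_inf h4 inf_le_left).trans (hQ1 ▸ bot_le)
  · refine absurd (le_bot_iff.mp ?_) (hline d hd hde)
    exact hP1 ▸ le_inf h3 inf_le_left

end Min

theorem Min.not_bad (h : Min q A N) {p r : ℕ} [Fact p.Prime] [Fact r.Prime] (hpr : p ≠ r) :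
    ¬ Bad A N p r := by
  intro hbad
  have h0 := h.toFpf
  by_cases h1 : core r (MP A N p r) = ⊥
  swap
  · by_cases h2 : core p (MP A N r p) = ⊥
    · exact h.case_three hpr.symm hbad.symm h2 h1
    · exact h.case_two hpr hbad h1 h2
  by_cases h2 : core p (MP A N r p) = ⊥
  swap
  · exact h.case_three hpr hbad h1 h2
  have hM := (h.max_MP hpr hbad).pr
  have hM' := (h.max_MP hpr.symm hbad.symm).pr
  by_cases hQ1 : MP A N p r ⊓ syl A N r = ⊥
  · by_cases hP1 : MP A N r p ⊓ syl A N p = ⊥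
    · by_cases hp2 : p = 2
      · exact h.case_four_bot hpr.symm hbad.symm (fun e => hpr (hp2.trans e.symm)) hP1 hQ1
      · exact h.case_four_bot hpr hbad hp2 hQ1 hP1
    · obtain ⟨c, hc, hc1, hne⟩ := h0.exists_comp_not_le (H := ⊥)
        (inf_le_left.trans hM'.le) (h0.inf_syl_inv p hM'.inv) fun e => hP1 (le_bot_iff.mp e)
      exact h.case_four_one hpr.symm hbad.symm h2 h1 hc hc1 (fun e => hne e.le) hQ1
  · obtain ⟨c, hc, hc1, hne⟩ := h0.exists_comp_not_le (H := ⊥)
      (inf_le_left.trans hM.le) (h0.inf_syl_inv r hM.inv) fun e => hQ1 (le_bot_iff.mp e)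
    by_cases hP1 : MP A N r p ⊓ syl A N p = ⊥
    · exact h.case_four_one hpr hbad h1 h2 hc hc1 (fun e => hne e.le) hP1
    · obtain ⟨c', hc', hc1', hne'⟩ := h0.exists_comp_not_le (H := ⊥)
        (inf_le_left.trans hM'.le) (h0.inf_syl_inv p hM'.inv) fun e => hP1 (le_bot_iff.mp e)
      obtain ⟨d, hd, hd1, hdc, hdc'⟩ := h0.exists_third h.q3 hc hc'
      have hP := h.comp_not_le hpr hbad h1 h2 hc hc1 (fun e => hne e.le) hd hdc
      have hQ := h.comp_not_le hpr.symm hbad.symm h2 h1 hc' hc1' (fun e => hne' e.le) hd hdc'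
      rcases h.comp_split hpr hbad hd hd1 with e | ⟨-, h4⟩ | ⟨h3, -⟩
      · exact hP (by rw [e]; exact bot_le)
      · exact hQ h4
      · exact hP h3

end H72.AbelianFour
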