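import Cfsg.Agent.H72.AbelianFour.Sylow
import Cfsg.Agent.H11.Regular

/-!
Structure of invariant two-prime subgroups: a Sylow subgroup together with the core for the other
prime is normal, and the cores control centralisers.
-/

set_option autoImplicit false

open scoped commutatorElement Pointwise
open Subgroup

namespace H72.AbelianFour

variable {Γ : Type*} [Group Γ] [Finite Γ] {q : ℕ} [hq : Fact q.Prime] {A N : Subgroup Γ}

namespace Fpf

variable (h : Fpf q A N) {p r : ℕ} [hp : Fact p.Prime] [hr : Fact r.Prime]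
include h

theorem core_inv (s : ℕ) {M : Subgroup Γ} (hM : IsPR A N p r M) :
    A ≤ normalizer (core s M : Set Γ) := le_normalizer_core s hM.inv

theorem core_le_syl (s : ℕ) [Fact s.Prime] {M : Subgroup Γ} (hM : IsPR A N p r M) :
    core s M ≤ syl A N s :=
  le_syl ((core_le s M).trans hM.le) (h.core_inv s hM) (isPGroup_core s M)

theorem coprime_syl (hpr : p ≠ r) {X : Subgroup Γ} (hX : X ≤ syl A N r) :
    (Nat.card X).Coprime p := by
  obtain ⟨k, hk⟩ := IsPGroup.iff_card.mp ((h.isPGroup_syl r).to_le hX)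
  rw [hk]
  exact ((Nat.coprime_primes hr.out hp.out).mpr hpr.symm).pow_left k

theorem syl_normal_of_core_eq_bot (hpr : p ≠ r) :
    ∀ M : Subgroup Γ, IsPR A N p r M → core r M = ⊥ →
      M ≤ normalizer ((M ⊓ syl A N p : Subgroup Γ) : Set Γ) := by
  intro M
  induction hn : Nat.card M using Nat.strong_induction_on generalizing M with
  | _ n ih =>
  intro hM hL
  set P0 := M ⊓ syl A N p with hP0
  set Q0 := M ⊓ syl A N r with hQ0
  by_cases hbot : M = ⊥
  · exact hbot ▸ bot_le
  haveI : Nontrivial ↥M := (Subgroup.nontrivial_iff_ne_bot M).mpr hbot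
  haveI := pr_solvable hpr hM
  set D := ⁅M, M⁆ with hD
  have hDM : D ≤ M := commutator_le_self M
  have hDi : A ≤ normalizer (D : Set Γ) := H83.le_normalizer_commutator hM.inv hM.inv
  have hDn : M ≤ normalizer (D : Set Γ) :=
    H83.le_normalizer_commutator Subgroup.le_normalizer Subgroup.le_normalizer
  have hDne : D ≠ M := by
    intro e
    refine (Group.IsSolvable.commutator_lt_top_of_nontrivial ↥M).ne ?_
    apply Subgroup.map_injective M.subtype_injective
    rw [map_subtype_commutator, ← MonoidHom.range_eq_map, range_subtype]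
    exact e
  have hstep : ∀ X : Subgroup Γ, X ≤ M → A ≤ normalizer (X : Set Γ) →
      M ≤ normalizer (X : Set Γ) → X ≠ M → X ⊓ syl A N p ≤ core p M := by
    intro X hXM hXi hXn hXne
    have hlt : Nat.card X < n :=
      hn ▸ lt_of_le_of_ne (card_le_of_le hXM) fun e => hXne (eq_of_le_of_card_ge hXM e.ge)
    have hLX : core r X = ⊥ := le_bot_iff.mp (hL ▸ core_le_core r hXM hXn)
    exact (le_core inf_le_left ((h.isPGroup_syl p).to_le inf_le_right)
      (ih _ hlt X rfl (pr_mono hM hXM hXi) hLX)).trans (core_le_core p hXM hXn)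
  have hdone : P0 ≤ core p M → M ≤ normalizer (P0 : Set Γ) := fun hle => by
    have he : P0 = core p M := le_antisymm hle (le_inf (core_le p M) (h.core_le_syl p hM))
    rw [he]
    exact self_le_normalizer_core p M
  by_cases hPD : P0 ≤ D
  · exact hdone ((le_inf hPD inf_le_right).trans (hstep D hDM hDi hDn hDne))
  set X := D ⊔ Q0 with hX
  have hXM : X ≤ M := sup_le hDM inf_le_left
  have hQi : A ≤ normalizer (Q0 : Set Γ) := h.inf_syl_inv r hM.inv
  have hXi : A ≤ normalizer (X : Set Γ) := by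
    intro a ha
    rw [mem_normalizer_iff_map_conj_eq, hX, Subgroup.map_sup,
      mem_normalizer_iff_map_conj_eq.mp (hDi ha), mem_normalizer_iff_map_conj_eq.mp (hQi ha)]
  have hXn : M ≤ normalizer (X : Set Γ) := by
    refine Subgroup.le_normalizer_iff.mpr fun g hg x hx => ?_
    have h1 : ⁅g, x⁆ ∈ X := (le_sup_left : D ≤ X) (commutator_mem_commutator hg (hXM hx))
    have h2 := mul_mem h1 hx
    simpa [commutatorElement_def, mul_assoc] using h2
  have hPS := h.sylowIn_inf p hM.le hM.inv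
  have hXne : X ≠ M := by
    intro e
    apply hPD
    have hQ0p : ¬ p ∣ Nat.card Q0 := fun hd =>
      hp.out.ne_one (Nat.eq_one_of_dvd_coprimes (h.coprime_syl hpr (inf_le_right : Q0 ≤ _))
        hd dvd_rfl)
    have hcard : Nat.card M ∣ Nat.card D * Nat.card Q0 := by
      have hQn : Q0 ≤ normalizer (D : Set Γ) := inf_le_left.trans hDn
      set K := normalizer (D : Set Γ)
      have hDK : D ≤ K := Subgroup.le_normalizer
      have h1 := H1.card_sup_dvd_mul (Q0.subgroupOf K) (D.subgroupOf K)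
      have hle : Q0 ⊔ D ≤ K := sup_le hQn hDK
      rw [← subgroupOf_sup hQn hDK, Nat.card_congr (subgroupOfEquivOfLe hle).toEquiv,
        Nat.card_congr (subgroupOfEquivOfLe hQn).toEquiv,
        Nat.card_congr (subgroupOfEquivOfLe hDK).toEquiv, sup_comm, ← hX, e, mul_comm] at h1
      exact h1
    have hS : H82.SylowIn p (D ⊓ syl A N p) M := by
      have hSD := h.sylowIn_inf p (hDM.trans hM.le) hDi
      refine ⟨inf_le_left.trans hDM, hSD.isPGroup, fun hd => ?_⟩
      rw [← relIndex_mul_relIndex _ D M inf_le_left hDM] at hd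
      rcases (Nat.Prime.dvd_mul hp.out).mp hd with h1 | h1
      · exact hSD.not_dvd h1
      · rw [← H82.card_mul_relIndex hDM] at hcard
        exact hQ0p (h1.trans (Nat.dvd_of_mul_dvd_mul_left Nat.card_pos hcard))
    rw [hP0, hS.eq_of_le hPS.isPGroup inf_le_left (inf_le_inf_right _ hDM)]
    exact inf_le_left
  set Px := X ⊓ syl A N p with hPx
  have hPxeq : Px = X ⊓ core p M :=
    le_antisymm (le_inf inf_le_left (hstep X hXM hXi hXn hXne))
      (inf_le_inf_left _ (h.core_le_syl p hM))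
  have hMPx : M ≤ normalizer (Px : Set Γ) :=
    hPxeq ▸ H8.le_normalizer_inf hXn (self_le_normalizer_core p M)
  have hPxi : A ≤ normalizer (Px : Set Γ) := h.inf_syl_inv p hXi
  have hQX : Q0 ≤ X := le_sup_right
  have hQ0N : Q0 ≤ N := inf_le_left.trans hM.le
  have hXeq : X ≤ Px ⊔ Q0 := h.pr_le_sup (pr_mono hM hXM hXi) le_sup_left
    ((inf_le_inf_right _ hXM).trans le_sup_right)
  -- the kernel is trivial
  set Z := Q0 ⊓ centralizer (Px : Set Γ) with hZ
  have hQ0Z : Q0 ≤ normalizer (Z : Set Γ) := H8.le_normalizer_inf Subgroup.le_normalizer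
    (H8.le_normalizer_centralizer_of_le_normalizer (inf_le_left.trans hMPx))
  have hZ0 : Z = ⊥ := by
    have hPxZ : Px ≤ centralizer (Z : Set Γ) := le_centralizer_iff.mp inf_le_right
    have hXZ : X ≤ normalizer (Z : Set Γ) :=
      hXeq.trans (sup_le (hPxZ.trans (centralizer_le_normalizer _)) hQ0Z)
    exact le_bot_iff.mp (hL ▸ (le_core (inf_le_left.trans hQX)
      ((h.isPGroup_syl r).to_le (inf_le_left.trans inf_le_right)) hXZ).trans
      (core_le_core r hXM hXn))
  have hQab : ∀ x ∈ Q0, ∀ y ∈ Q0, x * y = y * x := by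
    intro x hx y hy
    have h1 : ⁅x, y⁆ ∈ Z := ⟨Q0.mul_mem (Q0.mul_mem (Q0.mul_mem hx hy) (inv_mem hx)) (inv_mem hy),
      h.derived_centralizes hpr.symm ((h.isPGroup_syl r).to_le inf_le_right) hQ0N hQi Px
        ((h.isPGroup_syl p).to_le inf_le_right) (inf_le_left.trans (hXM.trans hM.le)) hPxi
        (inf_le_left.trans hMPx) (commutator_mem_commutator hx hy)⟩
    rw [hZ0, Subgroup.mem_bot] at h1
    exact commutatorElement_eq_one_iff_mul_comm.mp h1
  set S := P0 ⊓ normalizer (Q0 : Set Γ) with hS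
  have hSC : S ≤ centralizer (Q0 : Set Γ) := by
    refine h.abelian_centralizes ((h.isPGroup_syl p).to_le inf_le_right)
      (inf_le_left.trans (hXM.trans hM.le)) hPxi hQ0N hQi (inf_le_left.trans hMPx)
      (h.coprime_syl hpr inf_le_right) hQab hZ0
      (inf_le_left.trans (inf_le_left.trans hM.le)) ?_
      (inf_le_left.trans (inf_le_left.trans hMPx)) inf_le_right
    exact H8.le_normalizer_inf (h.inf_syl_inv p hM.inv) (le_normalizer_normalizer hQi)
  have hPxP0 : Px ≤ P0 := inf_le_inf_right _ hXM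
  have hPsplit : P0 ≤ Px ⊔ S := by
    intro m hm
    have hJ : Q0 ⊔ Px = X :=
      le_antisymm (sup_le hQX inf_le_left) (hXeq.trans (sup_comm Px Q0).le)
    have hmJ : m ∈ normalizer ((Q0 ⊔ Px : Subgroup Γ) : Set Γ) := by
      rw [hJ]; exact hXn hm.1
    have hPxr : ¬ r ∣ Nat.card Px := fun hd => hr.out.ne_one
      (Nat.eq_one_of_dvd_coprimes (h.coprime_syl hpr.symm (inf_le_right : Px ≤ _)) hd dvd_rfl)
    obtain ⟨u, hu, hum⟩ := exists_mul_mem_normalizer ((h.isPGroup_syl r).to_le inf_le_right)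
      hPxr (inf_le_left.trans hMPx) hmJ
    have h1 : u⁻¹ * m ∈ S := ⟨P0.mul_mem (P0.inv_mem (hPxP0 hu)) hm, hum⟩
    have h2 : u * (u⁻¹ * m) ∈ Px ⊔ S := mul_mem (le_sup_left (a := Px) hu) (le_sup_right (a := Px) h1)
    rwa [mul_inv_cancel_left] at h2
  have hP0eq : P0 = Px ⊔ S := le_antisymm hPsplit (sup_le hPxP0 inf_le_left)
  refine (h.pr_le_sup hM (H := P0 ⊔ Q0) le_sup_left le_sup_right).trans
    (sup_le Subgroup.le_normalizer ?_)
  intro x hx
  rw [mem_normalizer_iff_map_conj_eq, hP0eq, Subgroup.map_sup,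
    mem_normalizer_iff_map_conj_eq.mp (hMPx hx.1),
    mem_normalizer_iff_map_conj_eq.mp
      ((centralizer_le_normalizer _) (le_centralizer_iff.mp hSC hx))]

/-- A Sylow subgroup together with the core for the other prime is normal. -/
theorem syl_sup_core_normal (hpr : p ≠ r) {M : Subgroup Γ} (hM : IsPR A N p r M) :
    M ≤ normalizer ((((M ⊓ syl A N p) ⊔ core r M : Subgroup Γ)) : Set Γ) := by
  set L := core r M with hLdef
  set P0 := M ⊓ syl A N p with hP0
  set K := normalizer (L : Set Γ) with hKdef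
  have hMK : M ≤ K := self_le_normalizer_core r M
  have hAK : A ≤ K := h.core_inv r hM
  have hLK : L ≤ K := Subgroup.le_normalizer
  haveI : (L.subgroupOf K).Normal := normal_subgroupOf_of_le_normalizer le_rfl
  set f := QuotientGroup.mk' (L.subgroupOf K) with hf
  have h' : Fpf q ((A.subgroupOf K).map f) ((N.subgroupOf K).map f) :=
    Fpf.of_quotient h.expo h.comm h.card h.inv h.ndvd ((core_le r M).trans hM.le)
      (by rw [h.fixed]; exact bot_le) h.abel K hAK hLK
  set M' := (M.subgroupOf K).map f with hM'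
  have hM'pr : IsPR ((A.subgroupOf K).map f) ((N.subgroupOf K).map f) p r M' := by
    refine ⟨map_mono fun x hx => hM.le hx, le_normalizer_iff.mpr ?_, fun s hs hd => ?_⟩
    · rintro _ ⟨a, ha, rfl⟩ _ ⟨x, hx, rfl⟩
      exact ⟨a * x * a⁻¹, (mem_normalizer_iff.mp (hM.inv ha) x).mp hx, by simp⟩
    · refine hM.primes s hs ?_
      rw [← Nat.card_congr (subgroupOfEquivOfLe hMK).toEquiv]
      exact hd.trans (card_map_dvd f (H := M.subgroupOf K))
  have hLM : L ≤ M := core_le r M
  have hker : ∀ x : K, f x = 1 → (x : Γ) ∈ L := fun x hx => by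
    rw [hf, QuotientGroup.mk'_apply, QuotientGroup.eq_one_iff] at hx; exact hx
  have hpre : ∀ x : K, f x ∈ M' → (x : Γ) ∈ M := by
    rintro x ⟨y, hy, hyx⟩
    have h2 : ((y⁻¹ * x : K) : Γ) ∈ M :=
      hLM (hker _ (by rw [map_mul, map_inv, hyx, inv_mul_cancel]))
    have h3 := mul_mem (show (y : Γ) ∈ M from hy) h2
    simpa using h3
  -- the core of the image is trivial
  have hL' : core r M' = ⊥ := by
    set Z := ((core r M').comap f).map K.subtype with hZ
    have hZM : Z ≤ M := by
      rintro _ ⟨x, hx, rfl⟩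
      exact hpre x (core_le r M' hx)
    have hZr : IsPGroup r Z := by
      refine ((isPGroup_core r M').comap_of_ker_isPGroup f ?_).map _
      rw [hf, QuotientGroup.ker_mk']
      exact ((isPGroup_core r M).comap_subtype : IsPGroup r ↥(L.subgroupOf K))
    have hZn : M ≤ normalizer (Z : Set Γ) := by
      refine le_normalizer_iff.mpr fun m hm => ?_
      rintro _ ⟨x, hx, rfl⟩
      refine ⟨⟨m, hMK hm⟩ * x * ⟨m, hMK hm⟩⁻¹, ?_, rfl⟩
      rw [SetLike.mem_coe, mem_comap, map_mul, map_mul, map_inv]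
      exact (mem_normalizer_iff.mp
        (self_le_normalizer_core r M' ⟨⟨m, hMK hm⟩, hm, rfl⟩) _).mp hx
    rw [eq_bot_iff]
    intro z hz
    obtain ⟨x, rfl⟩ := QuotientGroup.mk'_surjective _ z
    have hxZ : (x : Γ) ∈ Z := ⟨x, hz, rfl⟩
    have hxL : (x : Γ) ∈ L := le_core hZM hZr hZn hxZ
    rw [Subgroup.mem_bot, QuotientGroup.mk'_apply, QuotientGroup.eq_one_iff]
    exact hxL
  have hn := h'.syl_normal_of_core_eq_bot hpr M' hM'pr hL'
  have hPS := h.sylowIn_inf p hM.le hM.inv
  have hP0eq : (P0.subgroupOf K).map f = M' ⊓ syl ((A.subgroupOf K).map f)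
      ((N.subgroupOf K).map f) p := by
    refine h'.eq_syl_inf hM'pr.le hM'pr.inv ⟨map_mono fun x hx => hx.1,
      (hPS.isPGroup.comap_subtype : IsPGroup p ↥(P0.subgroupOf K)).map f, fun hd => ?_⟩ ?_
    · have h1 : ((P0.subgroupOf K).map f).relIndex M' ∣
          (P0.subgroupOf K).relIndex (M.subgroupOf K) := by
        have hkM : f.ker ≤ M.subgroupOf K := fun x hx => hLM (hker x hx)
        rw [hM', relIndex_map_map, sup_eq_left.mpr hkM]
        exact relIndex_dvd_of_le_left _ le_sup_left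
      rw [relIndex_subgroupOf hMK] at h1
      exact hPS.not_dvd (hd.trans h1)
    · refine le_normalizer_iff.mpr ?_
      rintro _ ⟨a, ha, rfl⟩ _ ⟨x, hx, rfl⟩
      exact ⟨a * x * a⁻¹,
        (mem_normalizer_iff.mp (h.inf_syl_inv p hM.inv ha) x).mp hx, by simp⟩
  rw [← hP0eq] at hn
  have hP0K : P0 ≤ K := inf_le_left.trans hMK
  intro m hm
  have hfm : f ⟨m, hMK hm⟩ ∈ normalizer (((P0.subgroupOf K).map f : Subgroup _) : Set _) :=
    hn ⟨⟨m, hMK hm⟩, hm, rfl⟩
  have key : ((P0.subgroupOf K).map f).comap f = (P0 ⊔ L).subgroupOf K := by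
    rw [Subgroup.comap_map_eq, hf, QuotientGroup.ker_mk', subgroupOf_sup hP0K hLK]
  have h2 : (⟨m, hMK hm⟩ : K) ∈ normalizer (((P0 ⊔ L).subgroupOf K : Subgroup K) : Set K) := by
    rw [← key]
    exact le_normalizer_comap f hfm
  rw [mem_normalizer_iff]
  intro x
  have hle : P0 ⊔ L ≤ K := sup_le hP0K hLK
  constructor
  · intro hx
    exact (mem_normalizer_iff.mp h2 ⟨x, hle hx⟩).mp hx
  · intro hx
    have hxK : x ∈ K := by
      have := mul_mem (mul_mem (inv_mem (hMK hm)) (hle hx)) (hMK hm)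
      simpa [mul_assoc] using this
    exact (mem_normalizer_iff.mp h2 ⟨x, hxK⟩).mpr hx

/-- A two-prime group with trivial core for `p` has a nontrivial core for `r`, unless trivial. -/
theorem eq_bot_of_cores (hpr : p ≠ r) {M : Subgroup Γ} (hM : IsPR A N p r M)
    (hp0 : core p M = ⊥) (hr0 : core r M = ⊥) : M = ⊥ := by
  have h1 : M ⊓ syl A N p ≤ ⊥ := hp0 ▸ le_core inf_le_left
    ((h.isPGroup_syl p).to_le inf_le_right) (h.syl_normal_of_core_eq_bot hpr M hM hr0)
  have h2 : M ⊓ syl A N r ≤ ⊥ := hr0 ▸ le_core inf_le_left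
    ((h.isPGroup_syl r).to_le inf_le_right) (h.syl_normal_of_core_eq_bot hpr.symm M hM.symm hp0)
  exact le_bot_iff.mp (h.pr_le_sup hM h1 h2)

/-- The invariant Sylow `p`-subgroup of `(M ⊓ Q) O_p(M)` is `O_p(M)`. -/
theorem inf_syl_le_core (hpr : p ≠ r) {M : Subgroup Γ} (hM : IsPR A N p r M) :
    (((M ⊓ syl A N r) ⊔ core p M) ⊓ syl A N p : Subgroup Γ) ≤ core p M := by
  set R := core p M
  set Q0 := M ⊓ syl A N r
  have hJM : Q0 ⊔ R ≤ M := sup_le inf_le_left (core_le p M)
  have hQn : Q0 ≤ normalizer (R : Set Γ) := inf_le_left.trans (self_le_normalizer_core p M)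
  intro x hx
  have hset : ((Q0 ⊔ R : Subgroup Γ) : Set Γ) = (Q0 : Set Γ) * (R : Set Γ) :=
    Subgroup.coe_mul_of_left_le_normalizer_right Q0 R hQn
  have hx1 : x ∈ ((Q0 ⊔ R : Subgroup Γ) : Set Γ) := hx.1
  rw [hset] at hx1
  obtain ⟨y, hy, z, hz, rfl⟩ := Set.mem_mul.mp hx1
  have hyP : y ∈ syl A N p := by
    have := (syl A N p).mul_mem hx.2 ((syl A N p).inv_mem (h.core_le_syl p hM hz))
    rwa [mul_inv_cancel_right] at this
  have h1 : y ∈ syl A N p ⊓ syl A N r := ⟨hyP, hy.2⟩
  rw [commutator_inf_eq_bot hpr (h.isPGroup_syl p) (h.isPGroup_syl r), Subgroup.mem_bot] at h1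
  rw [h1, one_mul]
  exact hz

/-- A commutator with an `r`-subgroup falls into `O_p`. -/
theorem le_core_of_eq_commutator (hpr : p ≠ r) {M T W : Subgroup Γ} (hM : IsPR A N p r M)
    (hT : T ≤ M ⊓ syl A N p) (hW : W ≤ M ⊓ syl A N r) (hTW : T ≤ ⁅T, W⁆) : T ≤ core p M := by
  refine le_trans (le_inf ?_ (hT.trans inf_le_right)) (h.inf_syl_le_core hpr hM)
  refine hTW.trans ?_
  rw [commutator_comm]
  have hn := h.syl_sup_core_normal hpr.symm hM.symm
  exact (commutator_mono (hW.trans le_sup_left) le_rfl).trans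
    (H1.commutator_le_left_of_le_normalizer ((hT.trans inf_le_left).trans hn))

/-- The `r`-elements centralising `O_p` lie in `O_r`. -/
theorem le_core_of_centralizes (hpr : p ≠ r) {M : Subgroup Γ} (hM : IsPR A N p r M) :
    M ⊓ syl A N r ⊓ centralizer (core p M : Set Γ) ≤ core r M := by
  set R := core p M with hR
  set J := (M ⊓ syl A N r) ⊔ R with hJ
  have hJn : M ≤ normalizer (J : Set Γ) := h.syl_sup_core_normal hpr.symm hM.symm
  have hJM : J ≤ M := sup_le inf_le_left (core_le p M)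
  have hCn : M ≤ normalizer (centralizer (R : Set Γ) : Set Γ) :=
    H8.le_normalizer_centralizer_of_le_normalizer (self_le_normalizer_core p M)
  set C := J ⊓ centralizer (R : Set Γ) with hC
  have hCi : A ≤ normalizer (C : Set Γ) := by
    refine H8.le_normalizer_inf (fun a ha => ?_)
      (H8.le_normalizer_centralizer_of_le_normalizer (h.core_inv p hM))
    rw [mem_normalizer_iff_map_conj_eq, hJ, Subgroup.map_sup,
      mem_normalizer_iff_map_conj_eq.mp (h.inf_syl_inv r hM.inv ha),
      mem_normalizer_iff_map_conj_eq.mp (h.core_inv p hM ha)]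
  set X := M ⊓ syl A N r ⊓ centralizer (R : Set Γ) with hX
  have hXC : X ≤ C := le_inf (inf_le_left.trans le_sup_left) inf_le_right
  have hXr : IsPGroup r X := (h.isPGroup_syl r).to_le (inf_le_left.trans inf_le_right)
  have hCX : C ≤ normalizer (X : Set Γ) := by
    refine h.pr_le_sup (pr_mono hM (inf_le_left.trans hJM) hCi) ?_ ?_
    · have h1 : C ⊓ syl A N p ≤ R :=
        (inf_le_inf_right _ inf_le_left).trans (h.inf_syl_le_core hpr hM)
      exact h1.trans ((le_centralizer_iff.mp (inf_le_right : X ≤ _)).trans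
        (centralizer_le_normalizer _))
    · exact (le_inf (le_inf (inf_le_left.trans (inf_le_left.trans hJM)) inf_le_right)
        (inf_le_left.trans inf_le_right) : C ⊓ syl A N r ≤ X).trans Subgroup.le_normalizer
  exact (le_core hXC hXr hCX).trans
    (core_le_core r (inf_le_left.trans hJM) (H8.le_normalizer_inf hJn hCn))

end Fpf

end H72.AbelianFour
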