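import Cfsg.Agent.H72.AbelianFour.Cases
import Cfsg.Agent.S0021
import Mathlib.GroupTheory.SemidirectProduct

/-!
Solvability under a fixed-point-free action of an elementary abelian group of order `q²` with
abelian fixed point subgroups.
-/

set_option autoImplicit false

open scoped commutatorElement Pointwise
open Subgroup

namespace H72.AbelianFour

universe u

theorem Min.absurd_min {Γ : Type u} [Group Γ] [Finite Γ] {q : ℕ} [Fact q.Prime]
    {A N : Subgroup Γ} (h : Min q A N) : False := by
  have h0 := h.toFpf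
  have hex : ∀ p : Nat.Primes, ∃ S : Sylow (p : ℕ) N,
      (S : Subgroup N).map N.subtype = syl A N p := fun p => by
    haveI := Fact.mk p.2
    exact (h0.sylowIn_syl p).1.exists_sylow
  choose S hS using hex
  refine h.notSolv (Cfsg.Agent.S0021.result S fun p r => ?_)
  by_cases hpr : p = r
  · rw [hpr]
  haveI := Fact.mk p.2
  haveI := Fact.mk r.2
  have hpr' : (p : ℕ) ≠ r := fun e => hpr (Subtype.ext e)
  have hbad := h.not_bad hpr'
  simp only [Bad, not_forall, not_not] at hbad
  obtain ⟨M, hM, hP, hQ⟩ := hbad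
  set P' : Subgroup N := (S p : Subgroup N) with hP'
  set Q' : Subgroup N := (S r : Subgroup N) with hQ'
  set M' : Subgroup N := M.subgroupOf N with hM'
  have hPM : P' ≤ M' := fun x hx => hP (hS p ▸ ⟨x, hx, rfl⟩)
  have hQM : Q' ≤ M' := fun x hx => hQ (hS r ▸ ⟨x, hx, rfl⟩)
  have hdisj : Disjoint P' Q' :=
    IsPGroup.disjoint_of_ne _ _ hpr' P' Q' (S p).isPGroup' (S r).isPGroup'
  have hcard : Nat.card M ∣ Nat.card P' * Nat.card Q' := by
    rw [Sylow.card_eq_multiplicity, Sylow.card_eq_multiplicity]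
    have hn : Nat.card N ≠ 0 := Nat.card_pos.ne'
    rw [Nat.dvd_iff_prime_pow_dvd_dvd]
    intro s k hs hd
    rcases Nat.eq_zero_or_pos k with rfl | hk
    · simp
    have hdN := hd.trans (card_dvd_of_le hM.le)
    rw [hs.pow_dvd_iff_le_factorization hn] at hdN
    rcases hM.primes s hs ((dvd_pow_self s hk.ne').trans hd) with rfl | rfl
    · exact (pow_dvd_pow _ hdN).trans (dvd_mul_right _ _)
    · exact (pow_dvd_pow _ hdN).trans (dvd_mul_left _ _)
  have key : ∀ U V : Subgroup N, U ≤ M' → V ≤ M' → Disjoint U V →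
      Nat.card M ∣ Nat.card U * Nat.card V → (U : Set N) * (V : Set N) = (M' : Set N) := by
    intro U V hU hV hUV hc
    refine Set.eq_of_subset_of_ncard_le ?_ ?_ (Set.toFinite _)
    · rintro _ ⟨x, hx, y, hy, rfl⟩
      exact mul_mem (hU hx) (hV hy)
    · have h1 : ((U : Set N) * (V : Set N)).ncard = Nat.card U * Nat.card V := by
        rw [← Nat.card_prod, ← Nat.card_coe_set_eq]
        refine (Nat.card_congr (Equiv.ofBijective
          (fun x : U × V => (⟨(x.1 : N) * x.2, Set.mul_mem_mul x.1.2 x.2.2⟩ :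
            ((U : Set N) * (V : Set N) : Set N))) ⟨?_, ?_⟩)).symm
        · exact fun x y hxy => mul_injective_of_disjoint hUV (congrArg Subtype.val hxy)
        · rintro ⟨_, x, hx, y, hy, rfl⟩
          exact ⟨(⟨x, hx⟩, ⟨y, hy⟩), rfl⟩
      rw [h1, ← Nat.card_coe_set_eq]
      refine le_trans (le_of_eq (Nat.card_congr (subgroupOfEquivOfLe hM.le).toEquiv))
        (Nat.le_of_dvd (Nat.mul_pos Nat.card_pos Nat.card_pos) hc)
  exact (key P' Q' hPM hQM hdisj hcard).trans
    (key Q' P' hQM hPM hdisj.symm (by rwa [mul_comm])).symm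

theorem solvable_aux {q : ℕ} [hq : Fact q.Prime] (hq3 : 3 ≤ q) :
    ∀ (n : ℕ) (Γ : Type u) [Group Γ] [Finite Γ] (A N : Subgroup Γ),
      Fpf q A N → Nat.card N = n → Group.IsSolvable N := by
  intro n
  induction n using Nat.strong_induction_on with
  | _ n ih =>
  intro Γ _ _ A N h hn
  by_contra hns
  have hlt : ∀ X ≤ N, X ≠ N → Nat.card X < n := fun X hX hne =>
    hn ▸ lt_of_le_of_ne (card_le_of_le hX) fun e => hne (eq_of_le_of_card_ge hX e.ge)
  have hsolv : ∀ X ≤ N, X ≠ N → A ≤ normalizer (X : Set Γ) → Group.IsSolvable X :=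
    fun X hX hne hXi => ih _ (hlt X hX hne) Γ A X (h.mono hX hXi) rfl
  refine (Min.mk h hns hsolv (fun X hX hXi hXn => ?_) hq3).absurd_min
  by_contra hcon
  push Not at hcon
  obtain ⟨hbot, hne⟩ := hcon
  apply hns
  set K := normalizer (X : Set Γ) with hK
  haveI : (X.subgroupOf K).Normal := normal_subgroupOf_of_le_normalizer le_rfl
  have hXK : X ≤ K := Subgroup.le_normalizer
  have h' := Fpf.of_quotient h.expo h.comm h.card h.inv h.ndvd hX
    (by rw [h.fixed]; exact bot_le) h.abel K hXi hXK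
  set f := QuotientGroup.mk' (X.subgroupOf K) with hf
  set N' := (N.subgroupOf K).map f with hN'
  have hcard : Nat.card N' < n := by
    have h1 := h'
    have hker : f.ker ≤ N.subgroupOf K := by
      rw [hf, QuotientGroup.ker_mk']
      exact fun x hx => hX hx
    have h2 : Nat.card N' * Nat.card X = n := by
      set g : N.subgroupOf K →* N' := f.subgroupMap (N.subgroupOf K) with hg
      have hg' := card_mul_index g.ker
      rw [index_ker, MonoidHom.range_eq_top.mpr (f.subgroupMap_surjective _), card_top] at hg'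
      rw [← hn, ← Nat.card_congr (subgroupOfEquivOfLe hXn).toEquiv, ← hg', mul_comm]
      congr 1
      rw [← Nat.card_congr (subgroupOfEquivOfLe hXK).toEquiv]
      refine (Nat.card_congr ?_).symm
      exact
        { toFun := fun x => ⟨x.1, by
            have h3 : f x.1.1 = 1 := congrArg Subtype.val x.2
            rwa [hf, QuotientGroup.mk'_apply, QuotientGroup.eq_one_iff] at h3⟩
          invFun := fun x => ⟨⟨x.1, hX x.2⟩, Subtype.ext (by
            show f x.1 = 1
            rw [hf, QuotientGroup.mk'_apply, QuotientGroup.eq_one_iff]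
            exact x.2)⟩
          left_inv := fun x => rfl
          right_inv := fun x => rfl }
    have h3 : 1 < Nat.card X := X.one_lt_card_iff_ne_bot.mpr hbot
    have h4 : 0 < Nat.card N' := Nat.card_pos
    nlinarith
  have hs' : Group.IsSolvable N' := ih _ hcard _ _ _ h' rfl
  have hsX : Group.IsSolvable X := hsolv X hX hne hXi
  set g : N →* N' := (f.comp (inclusion hXn)).codRestrict N' fun x => ⟨inclusion hXn x, x.2, rfl⟩
  haveI := hsX
  haveI := hs'
  refine Group.isSolvable_of_ker_le_range (inclusion hX) g ?_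
  intro x hx
  have h5 : f (inclusion hXn x) = 1 := congrArg Subtype.val hx
  rw [hf, QuotientGroup.mk'_apply, QuotientGroup.eq_one_iff] at h5
  exact ⟨⟨x, h5⟩, Subtype.ext rfl⟩

/-- The main theorem in external form. -/
theorem solvable_of_action {A G : Type*} [Group A] [Finite A] [Group G] [Finite G]
    [MulDistribMulAction A G] (q : ℕ) [hq : Fact q.Prime] (hq3 : 3 ≤ q)
    (hA : Nat.card A = q ^ 2) (hnc : ¬ IsCyclic A) (hcop : ¬ q ∣ Nat.card G)
    (habel : ∀ a : A, a ≠ 1 → ∀ x y : G, a • x = x → a • y = y → x * y = y * x) :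
    Group.IsSolvable G := by
  have hcomm : ∀ a b : A, a * b = b * a := fun a b =>
    (IsPGroup.isMulCommutative_of_card_eq_prime_sq (p := q) hA).is_comm.comm a b
  have hexpo : ∀ a : A, a ^ q = 1 := by
    intro a
    have hd : orderOf a ∣ q ^ 2 := hA ▸ orderOf_dvd_natCard a
    obtain ⟨i, hi, hoi⟩ := (Nat.dvd_prime_pow hq.out).mp hd
    interval_cases i
    · rw [pow_zero] at hoi
      rw [orderOf_eq_one_iff.mp hoi, one_pow]
    · rw [pow_one] at hoi
      rw [← hoi, pow_orderOf_eq_one]
    · exact absurd (isCyclic_of_orderOf_eq_card a (hoi.trans hA.symm)) hnc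
  let φ : A →* MulAut G := MulDistribMulAction.toMulAut A G
  haveI : Finite (SemidirectProduct G A φ) := Finite.of_equiv _ SemidirectProduct.equivProd.symm
  let ι : G →* SemidirectProduct G A φ := SemidirectProduct.inl
  let A' : Subgroup (SemidirectProduct G A φ) := (SemidirectProduct.inr : A →* _).range
  let N : Subgroup (SemidirectProduct G A φ) := ι.range
  have hconj : ∀ (a : A) (g : G), (SemidirectProduct.inr a : SemidirectProduct G A φ) * ι g *
      (SemidirectProduct.inr a)⁻¹ = ι (a • g) := fun a g => by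
    rw [← map_inv]
    exact (SemidirectProduct.inl_aut (φ := φ) a g).symm
  have hfixiff : ∀ (a : A) (g : G), ι g * SemidirectProduct.inr a =
      SemidirectProduct.inr a * ι g ↔ a • g = g := by
    intro a g
    constructor
    · intro hg
      have h1 := hconj a g
      rw [← hg, mul_inv_cancel_right] at h1
      exact (SemidirectProduct.inl_injective h1).symm
    · intro hg
      have h1 := hconj a g
      rw [hg, mul_inv_eq_iff_eq_mul] at h1
      exact h1.symm
  set L : Subgroup (SemidirectProduct G A φ) := (center G).map ι with hL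
  have hL' : ∀ k : SemidirectProduct G A φ, k ∈ normalizer (L : Set _) := by
    intro k
    have hN : N ≤ normalizer (L : Set _) := by
      refine le_normalizer_iff.mpr ?_
      rintro _ ⟨g, rfl⟩ _ ⟨z, hz, rfl⟩
      exact ⟨g * z * g⁻¹, (inferInstance : (center G).Normal).conj_mem z hz g, by simp⟩
    have hA' : A' ≤ normalizer (L : Set _) := by
      refine le_normalizer_iff.mpr ?_
      rintro _ ⟨a, rfl⟩ _ ⟨z, hz, rfl⟩
      refine ⟨a • z, mem_center_iff.mpr fun g => ?_, (hconj a z).symm⟩
      have h1 := congrArg (fun t => a • t) (mem_center_iff.mp hz (a⁻¹ • g))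
      simpa [smul_mul', smul_inv_smul] using h1
    rw [← SemidirectProduct.inl_left_mul_inr_right k]
    exact mul_mem (hN ⟨_, rfl⟩) (hA' ⟨_, rfl⟩)
  haveI : (L.subgroupOf ⊤).Normal := normal_subgroupOf_of_le_normalizer fun k _ => hL' k
  have hcardN : Nat.card N = Nat.card G :=
    (Nat.card_congr (MonoidHom.ofInjective SemidirectProduct.inl_injective).toEquiv).symm
  have hexpo' : ∀ a ∈ A', a ^ q = 1 := by
    rintro _ ⟨a, rfl⟩
    rw [← map_pow, hexpo, map_one]
  have hcomm' : ∀ a ∈ A', ∀ b ∈ A', a * b = b * a := by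
    rintro _ ⟨a, rfl⟩ _ ⟨b, rfl⟩
    rw [← map_mul, ← map_mul, hcomm]
  have hcard' : Nat.card A' = q ^ 2 := by
    rw [← Nat.card_congr (MonoidHom.ofInjective SemidirectProduct.inr_injective).toEquiv, hA]
  have hinv' : A' ≤ normalizer (N : Set _) := by
    refine le_normalizer_iff.mpr ?_
    rintro _ ⟨a, rfl⟩ _ ⟨g, rfl⟩
    exact ⟨a • g, (hconj a g).symm⟩
  have habel' : ∀ a ∈ A', a ≠ 1 → ∀ x ∈ N, ∀ y ∈ N, x * a = a * x → y * a = a * y →
      x * y = y * x := by
    rintro _ ⟨a, rfl⟩ ha1 _ ⟨x, rfl⟩ _ ⟨y, rfl⟩ hx hy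
    rw [← map_mul, ← map_mul,
      habel a (fun e => ha1 (by rw [e, map_one])) x y ((hfixiff a x).mp hx) ((hfixiff a y).mp hy)]
  have hfix : N ⊓ centralizer (A' : Set (SemidirectProduct G A φ)) ≤ L := by
    rintro _ ⟨⟨g, rfl⟩, hg⟩
    refine ⟨g, ?_, rfl⟩
    have hgc : ∀ a : A, a • g = g := fun a =>
      (hfixiff a g).mp (mem_centralizer_iff.mp hg _ ⟨a, rfl⟩).symm
    have hle : N ≤ centralizer ({ι g} : Set (SemidirectProduct G A φ)) := by
      haveI : IsMulCommutative A' := ⟨⟨fun a b => Subtype.ext (hcomm' a a.2 b b.2)⟩⟩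
      have hncA' : ¬ IsCyclic A' := fun hc => hnc
        ((MonoidHom.ofInjective SemidirectProduct.inr_injective).isCyclic.mpr hc)
      refine H79.le_of_centralizers_le hexpo' hncA' hinv'
        (hq.out.coprime_iff_not_dvd.mpr (hcardN ▸ hcop)).symm fun a ha ha1 x hx => ?_
      obtain ⟨a, rfl⟩ := ha
      rw [Subgroup.mem_inf, mem_centralizer_singleton_iff] at hx
      rw [mem_centralizer_singleton_iff]
      exact habel' _ ⟨a, rfl⟩ ha1 x hx.1 (ι g) ⟨g, rfl⟩ hx.2 ((hfixiff a g).mpr (hgc a))
    refine mem_center_iff.mpr fun x => SemidirectProduct.inl_injective (φ := φ) ?_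
    rw [map_mul, map_mul]
    exact mem_centralizer_singleton_iff.mp (hle ⟨x, rfl⟩)
  have h := Fpf.of_quotient hexpo' hcomm' hcard' hinv' (hcardN ▸ hcop)
    (map_le_range ι (center G) : L ≤ N) hfix habel' ⊤ le_top le_top
  have hs := solvable_aux hq3 _ _ _ _ h rfl
  set f := QuotientGroup.mk' (L.subgroupOf ⊤)
  let g : G →* (N.subgroupOf ⊤).map f := (f.comp (ι.codRestrict ⊤ fun _ => mem_top _)).codRestrict _
    fun x => ⟨⟨ι x, mem_top _⟩, ⟨x, rfl⟩, rfl⟩
  have hsc : Group.IsSolvable (center G) :=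
    Group.isSolvable_of_comm fun a b => Subtype.ext (mem_center_iff.mp b.2 a)
  haveI := hsc
  haveI := hs
  refine Group.isSolvable_of_ker_le_range (center G).subtype g ?_
  intro x hx
  have h5 : f ⟨ι x, mem_top _⟩ = 1 := congrArg Subtype.val hx
  rw [QuotientGroup.mk'_apply, QuotientGroup.eq_one_iff] at h5
  obtain ⟨z, hz, hzx⟩ := h5
  exact ⟨⟨z, hz⟩, SemidirectProduct.inl_injective (φ := φ) hzx⟩

end H72.AbelianFour
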