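import Cfsg.Agent.H1.CoprimeAction
import Cfsg.Agent.H1.CoprimeAction2
import Cfsg.Agent.H6.Basic
import Cfsg.Agent.H84.Invariant
import Mathlib.GroupTheory.Abelianization.Defs

/-!
A module lemma for fixed-point-free coprime operators: an abelian group on which an operator acts
without fixed points centralises a coprime group whose fixed points of that operator are trivial
modulo the derived subgroup.
-/

set_option autoImplicit false

open scoped commutatorElement

namespace H72.AbelianFour

variable {Γ : Type*} [Group Γ]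

theorem exists_of_eq {U : Subgroup Γ} (v : Abelianization U) : ∃ u, Abelianization.of u = v :=
  QuotientGroup.mk'_surjective _ v

/-- Conjugation on the abelianisation of a normalised subgroup. -/
def abAct (U : Subgroup Γ) (g : Subgroup.normalizer (U : Set Γ)) :
    Abelianization U →* Abelianization U :=
  Abelianization.map (U.normalizerMonoidHom g).toMonoidHom

theorem abAct_of (U : Subgroup Γ) (g : Subgroup.normalizer (U : Set Γ)) (u : U) :
    abAct U g (Abelianization.of u) = Abelianization.of (U.normalizerMonoidHom g u) := rfl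

theorem abAct_mul (U : Subgroup Γ) (g h : Subgroup.normalizer (U : Set Γ))
    (v : Abelianization U) : abAct U (g * h) v = abAct U g (abAct U h v) := by
  obtain ⟨u, rfl⟩ := exists_of_eq v
  rw [abAct_of, abAct_of, abAct_of, map_mul]
  rfl

theorem abAct_one (U : Subgroup Γ) (v : Abelianization U) : abAct U 1 v = v := by
  obtain ⟨u, rfl⟩ := exists_of_eq v
  rw [abAct_of, map_one]
  rfl

theorem coe_normalizerMonoidHom (U : Subgroup Γ) (g : Subgroup.normalizer (U : Set Γ)) (u : U) :
    ((U.normalizerMonoidHom g u : U) : Γ) = g * u * (g : Γ)⁻¹ := rfl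

variable [Finite Γ]

/-- The product of the translates of a point under a subgroup is fixed. -/
theorem abAct_prod_fixed (U : Subgroup Γ) {B : Subgroup Γ}
    (hB : B ≤ Subgroup.normalizer (U : Set Γ)) [Fintype B] (b : B) (v : Abelianization U) :
    abAct U ⟨b, hB b.2⟩ (∏ x : B, abAct U ⟨x, hB x.2⟩ v) = ∏ x : B, abAct U ⟨x, hB x.2⟩ v := by
  rw [map_prod]
  refine Fintype.prod_equiv (Equiv.mulLeft b) _ _ fun x => ?_
  rw [← abAct_mul]
  rfl

/-- `B₂` centralises a `p`-group `U = [U, B₁]` if the operator `c` of prime order `q` has no fixed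
points on the group `B₂`, and its fixed points in `U` are centralised by `B₁`. -/
theorem master {U B1 B2 : Subgroup Γ} {p q : ℕ} [Fact p.Prime] [hq : Fact q.Prime] (hqp : q ≠ p)
    (hU : IsPGroup p U) {c : Γ} (hcq : c ^ q = 1)
    (hcU : c ∈ Subgroup.normalizer (U : Set Γ)) (hcB : c ∈ Subgroup.normalizer (B2 : Set Γ))
    (hB1U : B1 ≤ Subgroup.normalizer (U : Set Γ)) (hB2U : B2 ≤ Subgroup.normalizer (U : Set Γ))
    (hB1 : (Nat.card B1).Coprime p) (hB2 : (Nat.card B2).Coprime p)
    (hU1 : U ≤ ⁅U, B1⁆)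
    (hfix : U ⊓ Subgroup.centralizer ({c} : Set Γ) ≤ Subgroup.centralizer (B1 : Set Γ))
    (hfpf : ∀ x ∈ B2, x * c = c * x → x = 1) :
    B2 ≤ Subgroup.centralizer (U : Set Γ) := by
  classical
  have hp : p.Prime := Fact.out
  letI := Fintype.ofFinite B1
  letI := Fintype.ofFinite B2
  obtain ⟨k, hk⟩ := IsPGroup.iff_card.mp hU
  have hcardV : ∀ v : Abelianization U, v ^ p ^ k = 1 := by
    intro v
    obtain ⟨u, rfl⟩ := exists_of_eq v
    rw [← map_pow, ← hk, pow_card_eq_one', map_one]
  have hroot : ∀ (B : Subgroup Γ), (Nat.card B).Coprime p → ∀ v : Abelianization U,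
      v ^ Nat.card B = 1 → v = 1 := by
    intro B hB v hv
    rw [← orderOf_eq_one_iff]
    exact Nat.eq_one_of_dvd_coprimes (hB.pow_right k) (orderOf_dvd_of_pow_eq_one hv)
      (orderOf_dvd_of_pow_eq_one (hcardV v))
  -- the product over `B₁` is trivial
  have hπ : ∀ v : Abelianization U, ∏ x : B1, abAct U ⟨x, hB1U x.2⟩ v = 1 := by
    intro v
    obtain ⟨u, rfl⟩ := exists_of_eq v
    let π : U →* Abelianization U :=
      ∏ x : B1, (abAct U ⟨x, hB1U x.2⟩).comp Abelianization.of
    suffices hker : ∀ y ∈ ⁅U, B1⁆, ∀ hy : y ∈ U, π ⟨y, hy⟩ = 1 by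
      have := hker u (hU1 u.2) u.2
      rw [MonoidHom.finset_prod_apply] at this
      exact this
    have hle : ⁅U, B1⁆ ≤ π.ker.map U.subtype := by
      rw [Subgroup.commutator_le]
      intro w hw b hb
      have hmem : ⁅w, b⁆ ∈ U :=
        H1.commutator_le_left_of_le_normalizer hB1U (Subgroup.commutator_mem_commutator hw hb)
      refine ⟨⟨_, hmem⟩, ?_, rfl⟩
      rw [SetLike.mem_coe, MonoidHom.mem_ker, MonoidHom.finset_prod_apply]
      have hw' : (⟨⁅w, b⁆, hmem⟩ : U) =
          ⟨w, hw⟩ * (U.normalizerMonoidHom ⟨b, hB1U hb⟩ ⟨w, hw⟩)⁻¹ := by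
        refine Subtype.ext ?_
        simp only [Subgroup.coe_mul, Subgroup.coe_inv, coe_normalizerMonoidHom,
          commutatorElement_def, mul_inv_rev, inv_inv, mul_assoc]
      simp only [MonoidHom.comp_apply]
      rw [hw']
      simp only [map_mul, map_inv, Finset.prod_mul_distrib, Finset.prod_inv_distrib, ← abAct_of]
      rw [mul_inv_eq_one]
      refine (Fintype.prod_equiv (Equiv.mulRight (⟨b, hb⟩ : B1)) _ _ fun x => ?_).symm
      rw [← abAct_mul]
      rfl
    intro y hy hyU
    obtain ⟨⟨y', hy'⟩, hker, rfl⟩ := hle hy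
    exact hker
  -- `c` has no fixed points on the abelianisation
  have hC : ∀ v : Abelianization U, abAct U ⟨c, hcU⟩ v = v → v = 1 := by
    intro v hv
    obtain ⟨u, rfl⟩ := exists_of_eq v
    rw [abAct_of] at hv
    set K := (commutator U).map U.subtype with hK
    have hE : IsPGroup q (Subgroup.zpowers c) := by
      refine IsPGroup.of_card_dvd_pow (p := q) (n := 1) ?_
      rw [Nat.card_zpowers, pow_one]
      exact orderOf_dvd_of_pow_eq_one hcq
    have hEK : Subgroup.zpowers c ≤ Subgroup.normalizer (K : Set Γ) :=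
      H1.le_normalizer_map_subtype_of_characteristic (Subgroup.zpowers_le.mpr hcU) _
    have hKq : ¬ q ∣ Nat.card K := by
      intro hd
      have h1 : q ∣ p ^ k := hk ▸ hd.trans (Subgroup.card_dvd_of_le (Subgroup.map_subtype_le _))
      exact hqp ((Nat.prime_dvd_prime_iff_eq hq.out hp).mp (hq.out.dvd_of_dvd_pow h1))
    have hfixK : ∀ e ∈ Subgroup.zpowers c, (u : Γ)⁻¹ * (e * u * e⁻¹) ∈ K := by
      let S : Subgroup Γ :=
        { carrier := {e | e ∈ Subgroup.normalizer (U : Set Γ) ∧ ∀ he : e ∈ Subgroup.normalizer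
              (U : Set Γ), abAct U ⟨e, he⟩ (Abelianization.of u) = Abelianization.of u}
          one_mem' := ⟨one_mem _, fun _ => abAct_one U _⟩
          mul_mem' := fun {a b} ha hb => ⟨mul_mem ha.1 hb.1, fun _ =>
            (abAct_mul U ⟨a, ha.1⟩ ⟨b, hb.1⟩ _).trans (by rw [hb.2, ha.2])⟩
          inv_mem' := fun {a} ha => ⟨inv_mem ha.1, fun _ => by
            conv_lhs => rw [← ha.2 ha.1]
            rw [← abAct_mul]
            refine Eq.trans ?_ (abAct_one U _)
            congr 2
            exact Subtype.ext (inv_mul_cancel a)⟩ }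
      have hS : Subgroup.zpowers c ≤ S :=
        Subgroup.zpowers_le.mpr ⟨hcU, fun _ => (abAct_of U _ u).trans hv⟩
      intro e he
      obtain ⟨heU, heq⟩ := hS he
      have h := heq heU
      rw [abAct_of] at h
      exact ⟨u⁻¹ * U.normalizerMonoidHom ⟨e, heU⟩ u, by
        rw [← Abelianization.ker_of, SetLike.mem_coe, MonoidHom.mem_ker, map_mul, map_inv, h,
          inv_mul_cancel], rfl⟩
    obtain ⟨j, hj, hjc⟩ := H84.exists_fixed_in_coset hE hKq hEK (u : Γ) hfixK
    obtain ⟨j', hj', rfl⟩ := hj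
    have hwC : ((u * j' : U) : Γ) ∈ Subgroup.centralizer (B1 : Set Γ) := by
      refine hfix ⟨(u * j').2, Subgroup.mem_centralizer_singleton_iff.mpr ?_⟩
      exact (Subgroup.mem_centralizer_iff.mp hjc c (Subgroup.mem_zpowers c)).symm
    have hj1 : Abelianization.of j' = 1 := by
      rw [← MonoidHom.mem_ker, Abelianization.ker_of]; exact hj'
    have hfixed : ∀ x : B1, abAct U ⟨x, hB1U x.2⟩ (Abelianization.of u) = Abelianization.of u := by
      intro x
      have h1 : Abelianization.of u = Abelianization.of (u * j') := by rw [map_mul, hj1, mul_one]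
      rw [h1, abAct_of]
      congr 1
      refine Subtype.ext ?_
      rw [coe_normalizerMonoidHom]
      exact mul_inv_eq_iff_eq_mul.mpr (Subgroup.mem_centralizer_iff.mp hwC x x.2)
    refine hroot B1 hB1 _ ?_
    have := hπ (Abelianization.of u)
    rw [Finset.prod_congr rfl (fun x _ => hfixed x), Finset.prod_const, Finset.card_univ,
      ← Nat.card_eq_fintype_card] at this
    exact this
  -- hence the norm map of `c` vanishes
  have hN : ∀ v : Abelianization U,
      ∏ i ∈ Finset.range q, abAct U (⟨c, hcU⟩ ^ i) v = 1 := by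
    intro v
    refine hC _ ?_
    rw [map_prod]
    simp_rw [← abAct_mul, ← pow_succ']
    have h1 := Finset.prod_range_succ' (fun i => abAct U ((⟨c, hcU⟩ : Subgroup.normalizer
      (U : Set Γ)) ^ i) v) q
    have h2 := Finset.prod_range_succ (fun i => abAct U ((⟨c, hcU⟩ : Subgroup.normalizer
      (U : Set Γ)) ^ i) v) q
    have hcq' : (⟨c, hcU⟩ : Subgroup.normalizer (U : Set Γ)) ^ q = 1 := Subtype.ext hcq
    rw [h1, pow_zero, hcq', abAct_one] at h2
    exact mul_right_cancel h2
  let cN : Subgroup.normalizer (U : Set Γ) := ⟨c, hcU⟩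
  let bN : B2 → Subgroup.normalizer (U : Set Γ) := fun x => ⟨x, hB2U x.2⟩
  let π2 : Abelianization U → Abelianization U := fun v => ∏ x : B2, abAct U (bN x) v
  have hfix2 : ∀ (v : Abelianization U) (b : B2), abAct U (bN b) v = v := by
    intro v b
    have h : ∏ x : B2, ∏ i ∈ Finset.range q, abAct U (bN x * cN ^ i * (bN x)⁻¹) v = 1 := by
      refine Finset.prod_eq_one fun x _ => ?_
      simp_rw [abAct_mul]
      rw [← map_prod, hN, map_one]
    rw [Finset.prod_comm, ← Finset.mul_prod_erase _ _ (Finset.mem_range.mpr hq.out.pos)] at h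
    simp only [pow_zero, mul_one, mul_inv_cancel, abAct_one, Finset.prod_const,
      Finset.card_univ] at h
    -- the remaining factors are fixed by `B₂`
    have hrest : ∀ i ∈ (Finset.range q).erase 0, abAct U (bN b)
        (∏ x : B2, abAct U (bN x * cN ^ i * (bN x)⁻¹) v) =
          ∏ x : B2, abAct U (bN x * cN ^ i * (bN x)⁻¹) v := by
      intro i hi
      rw [Finset.mem_erase, Finset.mem_range] at hi
      have hci : c ^ i ∈ Subgroup.normalizer (B2 : Set Γ) := pow_mem hcB i
      let f : B2 → B2 := fun x => ⟨x * (c ^ i * (x : Γ)⁻¹ * (c ^ i)⁻¹),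
        mul_mem x.2 ((Subgroup.mem_normalizer_iff.mp hci _).mp (inv_mem x.2))⟩
      have hbij : Function.Bijective f := by
        refine Finite.injective_iff_bijective.mp fun x y hxy => ?_
        have h0 : (x : Γ) * (c ^ i * (x : Γ)⁻¹ * (c ^ i)⁻¹) =
            y * (c ^ i * (y : Γ)⁻¹ * (c ^ i)⁻¹) := congrArg Subtype.val hxy
        have hz : ((y : Γ)⁻¹ * x) * c ^ i = c ^ i * ((y : Γ)⁻¹ * x) := by
          have h1 : ((y : Γ)⁻¹ * x) = c ^ i * ((y : Γ)⁻¹ * x) * (c ^ i)⁻¹ := by
            calc ((y : Γ)⁻¹ * x) = (y : Γ)⁻¹ * ((x : Γ) * (c ^ i * (x : Γ)⁻¹ * (c ^ i)⁻¹)) *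
                  (c ^ i * x * (c ^ i)⁻¹) := by group
              _ = c ^ i * ((y : Γ)⁻¹ * x) * (c ^ i)⁻¹ := by rw [h0]; group
          exact mul_inv_eq_iff_eq_mul.mp h1.symm |>.symm
        have hcop : (q.Coprime i) := (hq.out.coprime_iff_not_dvd.mpr fun hd =>
          Nat.not_lt.mpr (Nat.le_of_dvd (Nat.pos_of_ne_zero hi.1) hd) hi.2)
        obtain ⟨m, hm⟩ := exists_pow_eq_self_of_coprime (n := i) (x := c)
          (Nat.Coprime.coprime_dvd_right (orderOf_dvd_of_pow_eq_one hcq) hcop.symm)
        have hz' : ((y : Γ)⁻¹ * x) * c = c * ((y : Γ)⁻¹ * x) := by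
          rw [← hm]; exact (Commute.pow_right hz m)
        exact Subtype.ext (inv_mul_eq_one.mp
          (hfpf _ (mul_mem (inv_mem y.2) x.2) hz')).symm
      have heq : ∏ x : B2, abAct U (bN x * cN ^ i * (bN x)⁻¹) v =
          π2 (abAct U (cN ^ i) v) := by
        refine Fintype.prod_equiv (Equiv.ofBijective f hbij) _ _ fun x => ?_
        rw [← abAct_mul]
        congr 2
        refine Subtype.ext ?_
        simp [f, bN, cN, mul_assoc]
      rw [heq]
      exact abAct_prod_fixed U hB2U b _
    have hR : abAct U (bN b) (∏ i ∈ (Finset.range q).erase 0,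
        ∏ x : B2, abAct U (bN x * cN ^ i * (bN x)⁻¹) v) = ∏ i ∈ (Finset.range q).erase 0,
        ∏ x : B2, abAct U (bN x * cN ^ i * (bN x)⁻¹) v := by
      rw [map_prod]; exact Finset.prod_congr rfl hrest
    have hvfix : abAct U (bN b) (v ^ Fintype.card B2) = v ^ Fintype.card B2 := by
      rw [eq_inv_of_mul_eq_one_left h, map_inv, hR]
    rw [map_pow] at hvfix
    refine mul_inv_eq_one.mp (hroot B2 hB2 _ ?_)
    rw [mul_pow, inv_pow, Nat.card_eq_fintype_card, hvfix, mul_inv_cancel]
  refine H1.le_centralizer_of_frattini hB2U ?_ ?_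
  · refine Nat.Coprime.coprime_dvd_right (Subgroup.card_subgroup_dvd_card _) ?_
    rw [hk]; exact hB2.pow_right k
  · intro b hb u hu
    refine ⟨U.normalizerMonoidHom ⟨b, hB2U hb⟩ ⟨u, hu⟩ * (⟨u, hu⟩ : U)⁻¹, ?_, rfl⟩
    refine H6.commutator_le_frattini hU ?_
    rw [← Abelianization.ker_of, MonoidHom.mem_ker, map_mul, map_inv, ← abAct_of,
      hfix2 _ ⟨b, hb⟩, mul_inv_cancel]

end H72.AbelianFour
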