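import Cfsg.Agent.H72.AbelianFour.Transfer

/-!
Maximal invariant `{p, r}`-subgroups of a minimal counterexample: the uniqueness lemma and the
first consequences.
-/

set_option autoImplicit false

open scoped commutatorElement Pointwise
open Subgroup

namespace H72.AbelianFour

variable {Γ : Type*} [Group Γ]

/-- The `{p, r}`-part of an invariant subgroup. -/
def hall (A N : Subgroup Γ) (p r : ℕ) (X : Subgroup Γ) : Subgroup Γ :=
  (X ⊓ syl A N p) ⊔ (X ⊓ syl A N r)

/-- The largest subgroup of the Sylow `r`-subgroup normalised by the Sylow `p`-subgroup. -/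
def lstar (A N : Subgroup Γ) (p r : ℕ) : Subgroup Γ :=
  sSup {X | X ≤ syl A N r ∧ syl A N p ≤ normalizer (X : Set Γ)}

/-- The largest invariant `{p, r}`-subgroup containing the Sylow `p`-subgroup. -/
def MP (A N : Subgroup Γ) (p r : ℕ) : Subgroup Γ :=
  lstar A N p r ⊔ hall A N p r (N ⊓ normalizer (syl A N p : Set Γ))

/-- The Sylow subgroups for `p` and `r` do not lie in an invariant `{p, r}`-subgroup. -/
def Bad (A N : Subgroup Γ) (p r : ℕ) : Prop :=
  ∀ M, IsPR A N p r M → syl A N p ≤ M → ¬ syl A N r ≤ M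

/-- A maximal invariant `{p, r}`-subgroup. -/
structure IsMaxPR (A N : Subgroup Γ) (p r : ℕ) (M : Subgroup Γ) : Prop where
  pr : IsPR A N p r M
  eq : ∀ M', IsPR A N p r M' → M ≤ M' → M' = M

theorem IsMaxPR.symm {A N M : Subgroup Γ} {p r : ℕ} (h : IsMaxPR A N p r M) : IsMaxPR A N r p M :=
  ⟨h.pr.symm, fun M' hM' => h.eq M' hM'.symm⟩

theorem Bad.symm {A N : Subgroup Γ} {p r : ℕ} (h : Bad A N p r) : Bad A N r p :=
  fun M hM h1 h2 => h M hM.symm h2 h1

/-- A nontrivial invariant subgroup of the centre of the Sylow `r`-subgroup, inside the core of the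
maximal subgroup over it and fixed by `b`. -/
structure Central (A N : Subgroup Γ) (p r : ℕ) (b : Γ) (W : Subgroup Γ) : Prop where
  mem : b ∈ A
  ne_one : b ≠ 1
  ne_bot : W ≠ ⊥
  inv : A ≤ normalizer (W : Set Γ)
  le : W ≤ core r (MP A N r p)
  fixed : W ≤ centralizer ({b} : Set Γ)
  central : syl A N r ≤ centralizer (W : Set Γ)

variable [Finite Γ] {q : ℕ} [hq : Fact q.Prime] {A N : Subgroup Γ}

namespace Fpf

variable (h : Fpf q A N) {p r : ℕ} [hp : Fact p.Prime] [hr : Fact r.Prime]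
include h

omit h hq in
theorem exists_max_ge {M : Subgroup Γ} (hM : IsPR A N p r M) :
    ∃ M', IsMaxPR A N p r M' ∧ M ≤ M' := by
  obtain ⟨M', hMM', hmax⟩ := Set.Finite.exists_le_maximal
    (s := {X | IsPR A N p r X}) (Set.toFinite _) (a := M) hM
  exact ⟨M', ⟨hmax.prop, fun X hX hle => le_antisymm (hmax.2 hX hle) hle⟩, hMM'⟩

theorem le_hall {X T : Subgroup Γ} (hT : IsPR A N p r T) (hTX : T ≤ X) :
    T ≤ hall A N p r X :=
  h.pr_le_sup hT ((inf_le_inf_right _ hTX).trans le_sup_left)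
    ((inf_le_inf_right _ hTX).trans le_sup_right)

theorem core_le_centralizer (hpr : p ≠ r) (M : Subgroup Γ) :
    core p M ≤ centralizer (core r M : Set Γ) := by
  rw [← commutator_eq_bot_iff_le_centralizer, eq_bot_iff,
    ← commutator_inf_eq_bot hpr (isPGroup_core p M) (isPGroup_core r M)]
  refine le_inf (H1.commutator_le_left_of_le_normalizer
    ((core_le r M).trans (self_le_normalizer_core p M))) ?_
  rw [commutator_comm]
  exact H1.commutator_le_left_of_le_normalizer
    ((core_le p M).trans (self_le_normalizer_core r M))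

omit hp in
/-- A nontrivial invariant normal subgroup of an invariant `r`-group has a nontrivial invariant
part centralised by it. -/
theorem exists_centralized {Q U : Subgroup Γ} (hQ : IsPGroup r Q) (hQi : A ≤ normalizer (Q : Set Γ))
    (hUQ : U ≤ Q) (hUi : A ≤ normalizer (U : Set Γ)) (hQU : Q ≤ normalizer (U : Set Γ))
    (hne : U ≠ ⊥) :
    ∃ Z ≤ U, Z ≠ ⊥ ∧ A ≤ normalizer (Z : Set Γ) ∧ Q ≤ centralizer (Z : Set Γ) := by
  obtain ⟨Z, ⟨hZU, hZne, hZi, hQZ⟩, hmin⟩ := Set.Finite.exists_minimal (s := {Z : Subgroup Γ |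
      Z ≤ U ∧ Z ≠ ⊥ ∧ A ≤ normalizer (Z : Set Γ) ∧ Q ≤ normalizer (Z : Set Γ)})
    (Set.toFinite _) ⟨U, le_rfl, hne, hUi, hQU⟩
  refine ⟨Z, hZU, hZne, hZi, ?_⟩
  have hlt : ⁅Z, Q⁆ < Z := H1.commutator_lt_of_isPGroup hQ (hQ.to_le (hZU.trans hUQ)) hQZ hZne
  by_contra hc
  refine hlt.not_ge (hmin ⟨hlt.le.trans hZU, fun e => hc ?_, H83.le_normalizer_commutator hZi hQi,
    H83.le_normalizer_commutator hQZ Subgroup.le_normalizer⟩ hlt.le)
  rwa [commutator_eq_bot_iff_le_centralizer, le_centralizer_iff] at e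

end Fpf

namespace Min

variable (h : Min q A N) {p r : ℕ} [hp : Fact p.Prime] [hr : Fact r.Prime]
include h

theorem pr_ne (hpr : p ≠ r) {M : Subgroup Γ} (hM : IsPR A N p r M) : M ≠ N :=
  h.ne_of_solvable (Fpf.pr_solvable hpr hM)

theorem isPR_hall {X : Subgroup Γ} (hX : X ≤ N) (hXi : A ≤ normalizer (X : Set Γ)) (hne : X ≠ N) :
    IsPR A N p r (hall A N p r X) :=
  h.toFpf.isPR_hall hX hXi (h.solv X hX hne hXi)

theorem centralizer_ne {Z : Subgroup Γ} (hZ : Z ≤ N) (hZi : A ≤ normalizer (Z : Set Γ))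
    (hbot : Z ≠ ⊥) (hne : Z ≠ N) : N ⊓ centralizer (Z : Set Γ) ≠ N := fun e =>
  h.normalizer_ne hZ hZi hbot hne (le_antisymm inf_le_left
    (e.ge.trans (inf_le_inf_left _ (centralizer_le_normalizer _))))

theorem centralizer_inv {Z : Subgroup Γ} (hZi : A ≤ normalizer (Z : Set Γ)) :
    A ≤ normalizer ((N ⊓ centralizer (Z : Set Γ) : Subgroup Γ) : Set Γ) :=
  H8.le_normalizer_inf h.inv (H8.le_normalizer_centralizer_of_le_normalizer hZi)

/-- Everything normalising a subgroup whose normaliser contains a maximal subgroup lies in it. -/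
theorem le_of_normalizes (hpr : p ≠ r) {M X T : Subgroup Γ} (hM : IsMaxPR A N p r M)
    (hX : IsPR A N p r X) (hbot : X ≠ ⊥) (hMX : M ≤ normalizer (X : Set Γ))
    (hT : IsPR A N p r T) (hTX : T ≤ normalizer (X : Set Γ)) : T ≤ M := by
  set Y := N ⊓ normalizer (X : Set Γ) with hY
  have hYi : A ≤ normalizer (Y : Set Γ) :=
    H8.le_normalizer_inf h.inv (le_normalizer_normalizer hX.inv)
  have hY' := h.isPR_hall (p := p) (r := r) (X := Y) inf_le_left hYi
    (h.normalizer_ne hX.le hX.inv hbot (h.pr_ne hpr hX))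
  rw [← hM.eq _ hY' (h.toFpf.le_hall hM.pr (le_inf hM.pr.le hMX))]
  exact h.toFpf.le_hall hT (le_inf hT.le hTX)

theorem syl_ne_bot (hbad : Bad A N p r) : syl A N p ≠ ⊥ := fun e => by
  have hQ : IsPR A N p r (syl A N r) :=
    (Fpf.pr_of_pGroup (h.toFpf.syl_le r) (h.toFpf.syl_inv r) (h.toFpf.isPGroup_syl r)
      : IsPR A N r p _).symm
  exact hbad _ hQ (by rw [e]; exact bot_le) le_rfl

theorem isPR_MP (hbad : Bad A N p r) : IsPR A N p r (MP A N p r) := by
  have h0 := h.toFpf
  set P := syl A N p with hP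
  set Q := syl A N r with hQ
  set Y := N ⊓ normalizer (P : Set Γ) with hY
  have hYi : A ≤ normalizer (Y : Set Γ) :=
    H8.le_normalizer_inf h.inv (le_normalizer_normalizer (h0.syl_inv p))
  have hYne : Y ≠ N := h.normalizer_ne (h0.syl_le p) (h0.syl_inv p) (h.syl_ne_bot hbad)
    (h.ne_of_pGroup (h0.isPGroup_syl p))
  have hconj : ∀ g ∈ normalizer (Q : Set Γ), g ∈ normalizer (P : Set Γ) →
      g ∈ normalizer (lstar A N p r : Set Γ) := by
    intro g hgQ hgP
    refine H82.mem_normalizer_of_map_le ?_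
    rw [lstar, map_le_iff_le_comap]
    refine sSup_le fun X hX => map_le_iff_le_comap.mp (le_sSup ⟨?_, ?_⟩)
    · exact (map_mono hX.1).trans (H82.mem_normalizer_iff_map.mp hgQ).le
    · rw [H82.normalizer_map_conj]
      exact (H82.mem_normalizer_iff_map.mp hgP).ge.trans (map_mono hX.2)
  have hPl : P ≤ normalizer (lstar A N p r : Set Γ) := fun g hg => by
    refine H82.mem_normalizer_of_map_le ?_
    rw [lstar, map_le_iff_le_comap]
    refine sSup_le fun X hX => map_le_iff_le_comap.mp ?_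
    rw [H82.mem_normalizer_iff_map.mp (hX.2 hg)]
    exact le_sSup hX
  have hl : IsPR A N p r (lstar A N p r) := by
    have hlQ : lstar A N p r ≤ Q := sSup_le fun X hX => hX.1
    exact (Fpf.pr_of_pGroup (hlQ.trans (h0.syl_le r))
      (fun a ha => hconj a (h0.syl_inv r ha) (h0.syl_inv p ha))
      ((h0.isPGroup_syl r).to_le hlQ) : IsPR A N r p _).symm
  have := Fpf.pr_sup (h.isPR_hall (p := p) (r := r) (X := Y) inf_le_left hYi hYne) hl
    (sup_le (inf_le_right.trans hPl) fun g hg => hconj g (Subgroup.le_normalizer hg.2) hg.1.2)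
  rwa [sup_comm] at this

theorem syl_le_MP : syl A N p ≤ MP A N p r :=
  le_trans (le_trans (le_inf (le_inf (h.toFpf.syl_le p) Subgroup.le_normalizer) le_rfl) le_sup_left)
    le_sup_right

theorem le_MP (hpr : p ≠ r) {M : Subgroup Γ} (hM : IsPR A N p r M) (hPM : syl A N p ≤ M) :
    M ≤ MP A N p r := by
  have h0 := h.toFpf
  refine h0.pr_le_sup hM (inf_le_right.trans h.syl_le_MP) fun m hm => ?_
  set L := core r M with hL
  have hJ := h0.syl_sup_core_normal hpr hM
  rw [inf_eq_right.mpr hPM] at hJ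
  obtain ⟨u, hu, hum⟩ := Fpf.exists_mul_mem_normalizer (h0.isPGroup_syl p) (U := L)
    (fun hd => hp.out.ne_one (Nat.eq_one_of_dvd_coprimes
      (h0.coprime_syl hpr (h0.core_le_syl r hM)) hd dvd_rfl))
    (hPM.trans (self_le_normalizer_core r M)) (hJ hm.1)
  have huQ : u ∈ syl A N r := h0.core_le_syl r hM hu
  have h1 : u ∈ lstar A N p r :=
    (le_sSup (s := {X | X ≤ syl A N r ∧ syl A N p ≤ normalizer (X : Set Γ)})
      ⟨h0.core_le_syl r hM, hPM.trans (self_le_normalizer_core r M)⟩) hu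
  have h2 : u⁻¹ * m ∈ (N ⊓ normalizer (syl A N p : Set Γ)) ⊓ syl A N r :=
    ⟨⟨N.mul_mem (N.inv_mem (h0.syl_le r huQ)) (hM.le hm.1), hum⟩,
      (syl A N r).mul_mem ((syl A N r).inv_mem huQ) hm.2⟩
  have h3 : u * (u⁻¹ * m) ∈ MP A N p r := mul_mem ((le_sup_left : lstar A N p r ≤ _) h1)
    ((le_sup_right : hall A N p r _ ≤ MP A N p r) ((le_sup_right : _ ≤ hall A N p r _) h2))
  rwa [mul_inv_cancel_left] at h3

theorem max_MP (hpr : p ≠ r) (hbad : Bad A N p r) : IsMaxPR A N p r (MP A N p r) :=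
  ⟨h.isPR_MP hbad, fun _ hM hle => le_antisymm (h.le_MP hpr hM (h.syl_le_MP.trans hle)) hle⟩

theorem not_syl_le_MP (hbad : Bad A N p r) : ¬ syl A N r ≤ MP A N p r :=
  hbad _ (h.isPR_MP hbad) h.syl_le_MP

theorem MP_ne (hbad : Bad A N p r) : MP A N p r ≠ MP A N r p := fun e =>
  h.not_syl_le_MP hbad (e ▸ h.syl_le_MP)

theorem eq_MP_of_syl_le (hpr : p ≠ r) (hbad : Bad A N p r) {M : Subgroup Γ}
    (hM : IsMaxPR A N p r M) (hP : syl A N p ≤ M) : M = MP A N p r :=
  (hM.eq _ (h.isPR_MP hbad) (h.le_MP hpr hM.pr hP)).symm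

theorem max_ne_bot (hbad : Bad A N p r) {M : Subgroup Γ} (hM : IsMaxPR A N p r M) : M ≠ ⊥ := by
  rintro rfl
  have := hM.eq _ (h.isPR_MP hbad) bot_le
  exact h.syl_ne_bot hbad (le_bot_iff.mp (this ▸ h.syl_le_MP))

theorem eq_MP_of_core_eq_bot (hpr : p ≠ r) (hbad : Bad A N p r) {M : Subgroup Γ}
    (hM : IsMaxPR A N p r M) (hL : core r M = ⊥) : M = MP A N p r := by
  have h0 := h.toFpf
  set P0 := M ⊓ syl A N p with hP0
  have hn := h0.syl_normal_of_core_eq_bot hpr M hM.pr hL
  have hP0pr : IsPR A N p r P0 := Fpf.pr_mono hM.pr inf_le_left (h0.inf_syl_inv p hM.pr.inv)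
  have hP0ne : P0 ≠ ⊥ := fun e => h.max_ne_bot hbad hM (h0.eq_bot_of_cores hpr hM.pr
    (le_bot_iff.mp (e ▸ le_inf (core_le p M) (h0.core_le_syl p hM.pr))) hL)
  refine h.eq_MP_of_syl_le hpr hbad hM ?_
  by_contra hPM
  have hlt : P0 < syl A N p := lt_of_le_of_ne inf_le_right fun e => hPM (e ▸ inf_le_left)
  refine (H1.isPGroup_sup_lt_normalizer (h0.isPGroup_syl p) hlt).not_ge ?_
  refine le_inf ?_ inf_le_left
  have hi : A ≤ normalizer ((syl A N p ⊓ normalizer (P0 : Set Γ) : Subgroup Γ) : Set Γ) :=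
    H8.le_normalizer_inf (h0.syl_inv p) (le_normalizer_normalizer hP0pr.inv)
  exact h.le_of_normalizes hpr hM hP0pr hP0ne hn
    (Fpf.pr_of_pGroup (inf_le_left.trans (h0.syl_le p)) hi
      ((h0.isPGroup_syl p).to_le inf_le_left)) inf_le_right

theorem core_MP_ne_bot (hpr : p ≠ r) (hbad : Bad A N p r) : core p (MP A N p r) ≠ ⊥ := fun e =>
  h.MP_ne hbad (h.eq_MP_of_core_eq_bot hpr.symm hbad.symm (h.max_MP hpr hbad).symm e)

theorem exists_central (hpr : p ≠ r) (hbad : Bad A N p r) :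
    ∃ b W, Central A N p r b W := by
  have h0 := h.toFpf
  have hM := (h.max_MP hpr.symm hbad.symm).pr
  obtain ⟨Z, hZU, hZne, hZi, hQZ⟩ := h0.exists_centralized (h0.isPGroup_syl r) (h0.syl_inv r)
    (h0.core_le_syl r hM) (h0.core_inv r hM)
    (h.syl_le_MP.trans (self_le_normalizer_core r _)) (h.core_MP_ne_bot hpr.symm hbad.symm)
  obtain ⟨b, hb, hb1, hne⟩ := h0.exists_comp_not_le (H := ⊥)
    (hZU.trans ((core_le r _).trans hM.le)) hZi (fun e => hZne (le_bot_iff.mp e))
  exact ⟨b, comp Z b, hb, hb1, fun e => hne e.le, h0.comp_inv hZi hb, inf_le_left.trans hZU,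
    inf_le_right, hQZ.trans (centralizer_le (inf_le_left : comp Z b ≤ Z))⟩

theorem uniq_aux (hpr : p ≠ r) {M M'' Rs : Subgroup Γ} (hM : IsMaxPR A N p r M)
    (hL : core r M ≠ ⊥) (hRs : Rs ≤ core p M) (hRsi : A ≤ normalizer (Rs : Set Γ))
    (hcent : ∀ X, IsPR A N p r X → X ≤ centralizer (Rs : Set Γ) → X ≤ M)
    (hself : core p M ⊓ centralizer (Rs : Set Γ) ≤ Rs) (hM'' : IsPR A N p r M'')
    (hRsM : Rs ≤ M'') (hLM : core r M ≤ M'') : M'' ≤ M := by
  have h0 := h.toFpf
  set R := core p M with hR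
  set L := core r M with hLdef
  set R' := core p M'' with hR'
  set L' := core r M'' with hL'
  have hRL : R ≤ centralizer (L : Set Γ) := h0.core_le_centralizer hpr M
  have hR'M'' : R' ≤ M'' := core_le p M''
  have hL'M'' : L' ≤ M'' := core_le r M''
  -- `L` centralises the core of `M''`
  set C := R' ⊓ centralizer (Rs : Set Γ) with hC
  have hCM : C ≤ M := hcent C (Fpf.pr_mono hM'' (inf_le_left.trans hR'M'')
    (H8.le_normalizer_inf (h0.core_inv p hM'')
      (H8.le_normalizer_centralizer_of_le_normalizer hRsi))) inf_le_right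
  have hLC : L ≤ centralizer (C : Set Γ) := by
    rw [← commutator_eq_bot_iff_le_centralizer, eq_bot_iff,
      ← commutator_inf_eq_bot hpr (isPGroup_core p M'') (isPGroup_core r M)]
    refine le_inf ?_ (H1.commutator_le_left_of_le_normalizer
      (hCM.trans (self_le_normalizer_core r M)))
    rw [commutator_comm]
    exact (commutator_mono inf_le_left le_rfl).trans (H1.commutator_le_left_of_le_normalizer
      (hLM.trans (self_le_normalizer_core p M'')))
  have hLR' : L ≤ centralizer (R' : Set Γ) := H1.thompson_P_times_Q (p := p) (P := Rs)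
    ((isPGroup_core p M).to_le hRs) (h0.coprime_syl hpr (h0.core_le_syl r hM.pr))
    (isPGroup_core p M'') (hRs.trans hRL) (hRsM.trans (self_le_normalizer_core p M''))
    (hLM.trans (self_le_normalizer_core p M'')) (le_centralizer_iff.mp hLC)
  have hLL' : L ≤ L' := (le_inf (le_inf hLM (h0.core_le_syl r hM.pr)) hLR').trans
    (h0.le_core_of_centralizes hpr hM'')
  -- `Rs` centralises the other core
  set C' := L' ⊓ centralizer (L : Set Γ) with hC'
  have hLpr : IsPR A N p r L := Fpf.pr_mono hM.pr (core_le r M) (h0.core_inv r hM.pr)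
  have hC'i : A ≤ normalizer (C' : Set Γ) := H8.le_normalizer_inf (h0.core_inv r hM'')
    (H8.le_normalizer_centralizer_of_le_normalizer (h0.core_inv r hM.pr))
  have hC'M : C' ≤ M := h.le_of_normalizes hpr hM hLpr hL (self_le_normalizer_core r M)
    (Fpf.pr_mono hM'' (inf_le_left.trans hL'M'') hC'i)
    (inf_le_right.trans (centralizer_le_normalizer _))
  have hRsC : C' ≤ centralizer (Rs : Set Γ) := by
    rw [← commutator_eq_bot_iff_le_centralizer, eq_bot_iff,
      ← commutator_inf_eq_bot hpr.symm (isPGroup_core r M'') (isPGroup_core p M)]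
    refine le_inf ((commutator_mono inf_le_left le_rfl).trans
      (H1.commutator_le_left_of_le_normalizer (hRsM.trans (self_le_normalizer_core r M'')))) ?_
    · rw [commutator_comm]
      exact (commutator_mono hRs le_rfl).trans (H1.commutator_le_left_of_le_normalizer
        (hC'M.trans (self_le_normalizer_core p M)))
  have hRsL' : Rs ≤ centralizer (L' : Set Γ) := H1.thompson_P_times_Q (p := r) (P := L)
    (isPGroup_core r M) ((h0.coprime_syl hpr.symm (hRs.trans (h0.core_le_syl p hM.pr))))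
    (isPGroup_core r M'') (le_centralizer_iff.mp (hRs.trans hRL))
    (hLL'.trans Subgroup.le_normalizer) (hRsM.trans (self_le_normalizer_core r M'')) hRsC
  have hL'pr : IsPR A N p r L' := Fpf.pr_mono hM'' hL'M'' (h0.core_inv r hM'')
  have hL'M : L' ≤ M := hcent L' hL'pr (le_centralizer_iff.mp hRsL')
  have hL'R : L' ≤ centralizer (R : Set Γ) := H1.thompson_P_times_Q (p := p) (P := Rs)
    ((isPGroup_core p M).to_le hRs) (h0.coprime_syl hpr (h0.core_le_syl r hM''))
    (isPGroup_core p M) hRsL' (hRs.trans Subgroup.le_normalizer)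
    (hL'M.trans (self_le_normalizer_core p M))
    (hself.trans hRsL')
  have hL'L : L' ≤ L := (le_inf (le_inf hL'M (h0.core_le_syl r hM'')) hL'R).trans
    (h0.le_core_of_centralizes hpr hM.pr)
  refine h.le_of_normalizes hpr hM hLpr hL (self_le_normalizer_core r M) hM'' ?_
  rw [← le_antisymm hL'L hLL']
  exact self_le_normalizer_core r M''

theorem uniq (hpr : p ≠ r) {M M'' : Subgroup Γ} (hM : IsMaxPR A N p r M) (hR : core p M ≠ ⊥)
    (hL : core r M ≠ ⊥) (hM'' : IsPR A N p r M'') (hRM : core p M ≤ M'')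
    (hLM : core r M ≤ M'') : M'' ≤ M :=
  h.uniq_aux hpr hM hL le_rfl (h.toFpf.core_inv p hM.pr)
    (fun X hX hXC => h.le_of_normalizes hpr hM
      (Fpf.pr_mono hM.pr (core_le p M) (h.toFpf.core_inv p hM.pr)) hR
      (self_le_normalizer_core p M) hX (hXC.trans (centralizer_le_normalizer _)))
    inf_le_left hM'' hRM hLM

theorem le_of_centralizes_abelian (hpr : p ≠ r) {M T X : Subgroup Γ} (hM : IsMaxPR A N p r M)
    (hL : core r M ≠ ⊥) (hTR : T ≤ core p M) (hTi : A ≤ normalizer (T : Set Γ)) (hTne : T ≠ ⊥)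
    (hTab : T ≤ centralizer (T : Set Γ)) (hX : IsPR A N p r X)
    (hXT : X ≤ centralizer (T : Set Γ)) : X ≤ M := by
  have h0 := h.toFpf
  set R := core p M with hRdef
  set L := core r M with hLdef
  have hR : R ≠ ⊥ := fun e => hTne (le_bot_iff.mp (e ▸ hTR))
  have hRN : R ≤ N := (core_le p M).trans hM.pr.le
  have hRpr : IsPR A N p r R := Fpf.pr_mono hM.pr (core_le p M) (h0.core_inv p hM.pr)
  have hLpr : IsPR A N p r L := Fpf.pr_mono hM.pr (core_le r M) (h0.core_inv r hM.pr)
  have hLR : L ≤ centralizer (R : Set Γ) :=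
    le_centralizer_iff.mp (h0.core_le_centralizer hpr M)
  -- the centre of the core
  set ZR := R ⊓ centralizer (R : Set Γ) with hZR
  have hZRi : A ≤ normalizer (ZR : Set Γ) := H8.le_normalizer_inf (h0.core_inv p hM.pr)
    (H8.le_normalizer_centralizer_of_le_normalizer (h0.core_inv p hM.pr))
  have hZRne : ZR ≠ ⊥ := by
    obtain ⟨Z, hZR', hZne, -, hRZ⟩ := h0.exists_centralized (isPGroup_core p M)
      (h0.core_inv p hM.pr) le_rfl (h0.core_inv p hM.pr) Subgroup.le_normalizer hR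
    exact fun e => hZne (le_bot_iff.mp (e ▸ le_inf hZR' (le_centralizer_iff.mp hRZ)))
  have hZY : ∀ Y, IsPR A N p r Y → Y ≤ centralizer (ZR : Set Γ) → Y ≤ M := by
    intro Y hY hYZ
    have hM2 := h.isPR_hall (p := p) (r := r) (X := N ⊓ centralizer (ZR : Set Γ)) inf_le_left
      (h.centralizer_inv hZRi) (h.centralizer_ne (inf_le_left.trans hRN) hZRi hZRne
        (h.ne_of_pGroup ((isPGroup_core p M).to_le inf_le_left)))
    refine (h0.le_hall hY (le_inf hY.le hYZ)).trans (h.uniq hpr hM hR hL hM2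
      (h0.le_hall hRpr (le_inf hRN ?_)) (h0.le_hall hLpr (le_inf hLpr.le ?_)))
    · exact le_centralizer_iff.mp inf_le_right
    · exact hLR.trans (centralizer_le (inf_le_left : ZR ≤ R))
  set Rs := R ⊓ centralizer (T : Set Γ) with hRsdef
  have hRsi : A ≤ normalizer (Rs : Set Γ) := H8.le_normalizer_inf (h0.core_inv p hM.pr)
    (H8.le_normalizer_centralizer_of_le_normalizer hTi)
  have hM3 := h.isPR_hall (p := p) (r := r) (X := N ⊓ centralizer (T : Set Γ)) inf_le_left
    (h.centralizer_inv hTi) (h.centralizer_ne (hTR.trans hRN) hTi hTne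
      (h.ne_of_pGroup ((isPGroup_core p M).to_le hTR)))
  refine (h0.le_hall hX (le_inf hX.le hXT)).trans
    (h.uniq_aux hpr hM hL (Rs := Rs) inf_le_left hRsi (fun Y hY hYC => hZY Y hY ?_) ?_ hM3
      (h0.le_hall (Fpf.pr_mono hRpr inf_le_left hRsi) (le_inf (inf_le_left.trans hRN) inf_le_right))
      (h0.le_hall hLpr (le_inf hLpr.le (hLR.trans (centralizer_le hTR)))))
  · refine hYC.trans (centralizer_le ?_)
    exact le_inf inf_le_left (inf_le_right.trans (centralizer_le hTR))
  · exact le_inf inf_le_left (inf_le_right.trans (centralizer_le (le_inf hTR hTab)))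

end Min

namespace Central

variable {p r : ℕ} [hp : Fact p.Prime] [hr : Fact r.Prime] {b : Γ} {W : Subgroup Γ}
  (hW : Central A N p r b W) (h : Min q A N) (hpr : p ≠ r) (hbad : Bad A N p r)
include hW h hpr hbad

theorem le_syl : W ≤ syl A N r :=
  hW.le.trans (h.toFpf.core_le_syl r (h.isPR_MP hbad.symm))

theorem le_N : W ≤ N := (hW.le_syl h hpr hbad).trans (h.toFpf.syl_le r)

theorem le_MP_of_centralizes {X : Subgroup Γ} (hX : IsPR A N p r X)
    (hXW : X ≤ centralizer (W : Set Γ)) : X ≤ MP A N r p := by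
  have h0 := h.toFpf
  have hC := h.isPR_hall (p := r) (r := p) (X := N ⊓ centralizer (W : Set Γ)) inf_le_left
    (h.centralizer_inv hW.inv) (h.centralizer_ne (hW.le_N h hpr hbad) hW.inv hW.ne_bot
      (h.ne_of_pGroup ((h0.isPGroup_syl r).to_le (hW.le_syl h hpr hbad))))
  refine (h0.le_hall hX.symm (le_inf hX.le hXW)).trans (h.le_MP hpr.symm hC ?_)
  exact h0.le_hall (Fpf.pr_of_pGroup (h0.syl_le r) (h0.syl_inv r) (h0.isPGroup_syl r))
    (le_inf (h0.syl_le r) hW.central)

theorem comp_centralizes {X : Subgroup Γ} (hX : X ≤ N) :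
    comp X b ≤ centralizer (W : Set Γ) := fun x hx => mem_centralizer_iff.mpr fun w hw =>
  h.abel b hW.mem hW.ne_one w (hW.le_N h hpr hbad hw) x (hX hx.1)
    (mem_centralizer_singleton_iff.mp (hW.fixed hw)) (mem_comp.mp hx).2

theorem comp_le : comp (syl A N p) b ≤ MP A N r p :=
  hW.le_MP_of_centralizes h hpr hbad (Fpf.pr_of_pGroup (inf_le_left.trans (h.toFpf.syl_le p))
    (h.toFpf.comp_inv (h.toFpf.syl_inv p) hW.mem)
    ((h.toFpf.isPGroup_syl p).to_le inf_le_left))
    (hW.comp_centralizes h hpr hbad (h.toFpf.syl_le p))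

theorem comp_commutator_not_le {T : Subgroup Γ} (hT : T ≤ syl A N p)
    (hTi : A ≤ normalizer (T : Set Γ)) (hWT : W ≤ normalizer (T : Set Γ))
    (hnc : ¬ W ≤ centralizer (T : Set Γ)) {c : Γ} (hc : c ∈ A) (hcb : c ∉ zpowers b) :
    ¬ comp ⁅T, W⁆ c ≤ MP A N r p := by
  intro hle
  have h0 := h.toFpf
  apply hnc
  refine h0.centralizes_of_comp ((h0.isPGroup_syl p).to_le hT) (hT.trans (h0.syl_le p)) hTi
    (hW.le_N h hpr hbad) hW.inv hWT (h0.coprime_syl hpr (hW.le_syl h hpr hbad)) hW.mem hW.ne_one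
    hW.fixed hc hcb fun u hu => mem_centralizer_iff.mpr fun w hw => ?_
  have huT : u ∈ T := H1.commutator_le_left_of_le_normalizer hWT hu.1
  have hwL : w ∈ core r (MP A N r p) := hW.le hw
  have h1 : ⁅u, w⁆ ∈ T ⊓ core r (MP A N r p) := by
    refine ⟨H1.commutator_le_left_of_le_normalizer hWT (commutator_mem_commutator huT hw), ?_⟩
    exact (core r (MP A N r p)).mul_mem
      ((mem_normalizer_iff.mp (self_le_normalizer_core r _ (hle hu)) w).mp hwL)
      ((core r (MP A N r p)).inv_mem hwL)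
  rw [commutator_inf_eq_bot hpr ((h0.isPGroup_syl p).to_le hT) (isPGroup_core r _),
    Subgroup.mem_bot, commutatorElement_eq_one_iff_mul_comm] at h1
  exact h1.symm

/-- A maximal subgroup with two cores other than the one over the Sylow `r`-subgroup. -/
theorem step {M : Subgroup Γ} (hM : IsMaxPR A N p r M) (hR : core p M ≠ ⊥) (hL : core r M ≠ ⊥)
    (hne : M ≠ MP A N r p) :
    W ≤ M ∧ ¬ W ≤ centralizer (core p M : Set Γ) ∧ ∀ c ∈ A, c ∉ zpowers b →
      comp (syl A N p) c ≤ M ∧ comp (syl A N r) c ≤ M ∧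
      ¬ comp (syl A N p) c ≤ MP A N r p := by
  have h0 := h.toFpf
  set R := core p M with hRdef
  set L := core r M with hLdef
  have hLpr : IsPR A N p r L := Fpf.pr_mono hM.pr (core_le r M) (h0.core_inv r hM.pr)
  have hRpr : IsPR A N p r R := Fpf.pr_mono hM.pr (core_le p M) (h0.core_inv p hM.pr)
  have hWpr : IsPR A N p r W := (Fpf.pr_of_pGroup (hW.le_N h hpr hbad) hW.inv
    ((h0.isPGroup_syl r).to_le (hW.le_syl h hpr hbad)) : IsPR A N r p W).symm
  have hLW : L ≤ centralizer (W : Set Γ) := (h0.core_le_syl r hM.pr).trans hW.central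
  have hWM : W ≤ M := h.le_of_normalizes hpr hM hLpr hL (self_le_normalizer_core r M) hWpr
    ((le_centralizer_iff.mp hLW).trans (centralizer_le_normalizer _))
  have hWR : ¬ W ≤ centralizer (R : Set Γ) := by
    intro hc
    have hC := h.isPR_hall (p := p) (r := r) (X := N ⊓ centralizer (W : Set Γ)) inf_le_left
      (h.centralizer_inv hW.inv) (h.centralizer_ne (hW.le_N h hpr hbad) hW.inv hW.ne_bot
        (h.ne_of_pGroup ((h0.isPGroup_syl r).to_le (hW.le_syl h hpr hbad))))
    have hle := h.uniq hpr hM hR hL hC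
      (h0.le_hall hRpr (le_inf hRpr.le (le_centralizer_iff.mp hc)))
      (h0.le_hall hLpr (le_inf hLpr.le hLW))
    refine hne (h.eq_MP_of_syl_le hpr.symm hbad.symm hM.symm ((h0.le_hall ?_ ?_).trans hle))
    · exact (Fpf.pr_of_pGroup (h0.syl_le r) (h0.syl_inv r) (h0.isPGroup_syl r) :
        IsPR A N r p _).symm
    · exact le_inf (h0.syl_le r) hW.central
  refine ⟨hWM, hWR, fun c hc hcb => ?_⟩
  have hWn : W ≤ normalizer (R : Set Γ) := hWM.trans (self_le_normalizer_core p M)
  have hT1 := hW.comp_commutator_not_le h hpr hbad (h0.core_le_syl p hM.pr) (h0.core_inv p hM.pr)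
    hWn hWR hc hcb
  set U := comp ⁅R, W⁆ c with hU
  have hc1 : c ≠ 1 := fun e => hcb (e ▸ one_mem _)
  have hUR : U ≤ R := inf_le_left.trans (H1.commutator_le_left_of_le_normalizer hWn)
  have hUi : A ≤ normalizer (U : Set Γ) :=
    h0.comp_inv (H83.le_normalizer_commutator (h0.core_inv p hM.pr) hW.inv) hc
  have hUne : U ≠ ⊥ := fun e => hT1 (by rw [e]; exact bot_le)
  have hUN : U ≤ N := hUR.trans hRpr.le
  have hUc : ∀ Y : Subgroup Γ, Y ≤ N → comp Y c ≤ centralizer (U : Set Γ) := fun Y hY y hy =>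
    mem_centralizer_iff.mpr fun u hu => h.abel c hc hc1 u (hUN hu) y (hY hy.1)
      (mem_centralizer_singleton_iff.mp hu.2) (mem_comp.mp hy).2
  have hUab : U ≤ centralizer (U : Set Γ) := fun x hx => mem_centralizer_iff.mpr fun u hu =>
    h.abel c hc hc1 u (hUN hu) x (hUN hx) (mem_centralizer_singleton_iff.mp hu.2)
      (mem_centralizer_singleton_iff.mp hx.2)
  refine ⟨h.le_of_centralizes_abelian hpr hM hL hUR hUi hUne hUab
      (Fpf.pr_of_pGroup (inf_le_left.trans (h0.syl_le p)) (h0.comp_inv (h0.syl_inv p) hc)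
        ((h0.isPGroup_syl p).to_le inf_le_left)) (hUc _ (h0.syl_le p)),
    h.le_of_centralizes_abelian hpr hM hL hUR hUi hUne hUab
      (Fpf.pr_of_pGroup (inf_le_left.trans (h0.syl_le r)) (h0.comp_inv (h0.syl_inv r) hc)
        ((h0.isPGroup_syl r).to_le inf_le_left) : IsPR A N r p _).symm (hUc _ (h0.syl_le r)),
    fun hle => hT1 (le_trans (inf_le_inf_right _ ?_) hle)⟩
  exact (H1.commutator_le_left_of_le_normalizer hWn).trans (h0.core_le_syl p hM.pr)

end Central

end H72.AbelianFour
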