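import Cfsg.Agent.H72.AbelianFour.Action
import Cfsg.Agent.H1.Hall
import Cfsg.Agent.S0144

/-!
The unique invariant Sylow subgroups, invariant two-prime subgroups, cores, and passage to a
quotient, for a fixed-point-free group of operators.
-/

set_option autoImplicit false

open scoped commutatorElement Pointwise
open Subgroup

namespace H72.AbelianFour

variable {Γ : Type*} [Group Γ]

/-- The join of the invariant `p`-subgroups of `N`. -/
def syl (A N : Subgroup Γ) (p : ℕ) : Subgroup Γ :=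
  sSup {X | X ≤ N ∧ A ≤ normalizer (X : Set Γ) ∧ IsPGroup p X}

/-- An invariant `{p, r}`-subgroup of `N`. -/
structure IsPR (A N : Subgroup Γ) (p r : ℕ) (M : Subgroup Γ) : Prop where
  le : M ≤ N
  inv : A ≤ normalizer (M : Set Γ)
  primes : ∀ s : ℕ, s.Prime → s ∣ Nat.card M → s = p ∨ s = r

/-- `O_p` of a subgroup, in the ambient group. -/
def core (p : ℕ) (M : Subgroup Γ) : Subgroup Γ := (Cfsg.pCore p ↥M).map M.subtype

theorem IsPR.symm {A N M : Subgroup Γ} {p r : ℕ} (h : IsPR A N p r M) : IsPR A N r p M :=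
  ⟨h.le, h.inv, fun s hs hd => (h.primes s hs hd).symm⟩

/-- Normalisers of normalised subgroups are normalised. -/
theorem le_normalizer_normalizer {B X : Subgroup Γ} (h : B ≤ normalizer (X : Set Γ)) :
    B ≤ normalizer ((normalizer (X : Set Γ) : Subgroup Γ) : Set Γ) :=
  h.trans Subgroup.le_normalizer

theorem core_le (p : ℕ) (M : Subgroup Γ) : core p M ≤ M := map_subtype_le _

theorem isPGroup_core (p : ℕ) (M : Subgroup Γ) : IsPGroup p (core p M) :=
  (H1.isPGroup_pCore p ↥M).map _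

theorem le_normalizer_core (p : ℕ) {M B : Subgroup Γ} (hB : B ≤ normalizer (M : Set Γ)) :
    B ≤ normalizer (core p M : Set Γ) :=
  haveI := H1.pCore_characteristic p ↥M
  H1.le_normalizer_map_subtype_of_characteristic hB _

theorem self_le_normalizer_core (p : ℕ) (M : Subgroup Γ) : M ≤ normalizer (core p M : Set Γ) :=
  le_normalizer_core p Subgroup.le_normalizer

theorem le_core {p : ℕ} {M X : Subgroup Γ} (hXM : X ≤ M) (hX : IsPGroup p X)
    (hn : M ≤ normalizer (X : Set Γ)) : X ≤ core p M := by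
  haveI : (X.subgroupOf M).Normal := normal_subgroupOf_of_le_normalizer hn
  have h := H1.le_pCore (p := p) (N := X.subgroupOf M) hX.comap_subtype
  have h2 := map_mono (f := M.subtype) h
  rwa [map_subgroupOf_eq_of_le hXM] at h2

theorem core_le_core (p : ℕ) {M X : Subgroup Γ} (hXM : X ≤ M)
    (hn : M ≤ normalizer (X : Set Γ)) : core p X ≤ core p M :=
  le_core ((core_le p X).trans hXM) (isPGroup_core p X) (le_normalizer_core p hn)

theorem commutator_inf_eq_bot {p r : ℕ} [Fact p.Prime] [Fact r.Prime] (hpr : p ≠ r) {X Y : Subgroup Γ}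
    (hX : IsPGroup p X) (hY : IsPGroup r Y) : X ⊓ Y = ⊥ := by
  exact disjoint_iff.mp (IsPGroup.disjoint_of_ne p r hpr X Y hX hY)

variable [Finite Γ] {q : ℕ} [hq : Fact q.Prime] {A N : Subgroup Γ}

namespace Fpf

omit hq in
theorem mono (h : Fpf q A N) {X : Subgroup Γ} (hX : X ≤ N) (hXi : A ≤ normalizer (X : Set Γ)) :
    Fpf q A X where
  expo := h.expo
  comm := h.comm
  card := h.card
  inv := hXi
  ndvd := fun hd => h.ndvd (hd.trans (card_dvd_of_le hX))
  fixed := le_bot_iff.mp (h.fixed ▸ inf_le_inf_right _ hX)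
  abel := fun a ha ha1 x hx y hy => h.abel a ha ha1 x (hX hx) y (hX hy)

variable (h : Fpf q A N)
include h

theorem eq_of_inv_sylowIn {p : ℕ} [Fact p.Prime] {X S T : Subgroup Γ} (hX : X ≤ N)
    (hXi : A ≤ normalizer (X : Set Γ)) (hS : H82.SylowIn p S X)
    (hSi : A ≤ normalizer (S : Set Γ)) (hT : H82.SylowIn p T X)
    (hTi : A ≤ normalizer (T : Set Γ)) : S = T := by
  obtain ⟨c, hc, hcT⟩ := H8.inv_sylowIn_conj h.isPGroup hXi (h.ndvd_of_le hX) hS hSi hT hTi
  have hc1 : c = 1 := by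
    have : c ∈ N ⊓ centralizer (A : Set Γ) := ⟨hX hc.1, hc.2⟩
    rwa [h.fixed, Subgroup.mem_bot] at this
  rw [← hcT, hc1, H82.map_conj_one]

theorem sylowIn_syl (p : ℕ) [Fact p.Prime] :
    H82.SylowIn p (syl A N p) N ∧ A ≤ normalizer (syl A N p : Set Γ) := by
  obtain ⟨S, hS, hSi⟩ := H8.exists_inv_sylowIn (q := p) h.isPGroup h.inv h.ndvd
  suffices he : syl A N p = S by rw [he]; exact ⟨hS, hSi⟩
  refine le_antisymm (sSup_le ?_) (le_sSup ⟨hS.le, hSi, hS.isPGroup⟩)
  rintro X ⟨hXN, hXi, hX⟩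
  obtain ⟨T, hT, hTi, hXT⟩ := H8.exists_inv_sylowIn_ge h.isPGroup h.inv h.ndvd hX hXN hXi
  exact (h.eq_of_inv_sylowIn le_rfl h.inv hS hSi hT hTi) ▸ hXT

theorem syl_le (p : ℕ) [Fact p.Prime] : syl A N p ≤ N := (h.sylowIn_syl p).1.le

theorem syl_inv (p : ℕ) [Fact p.Prime] : A ≤ normalizer (syl A N p : Set Γ) := (h.sylowIn_syl p).2

theorem isPGroup_syl (p : ℕ) [Fact p.Prime] : IsPGroup p (syl A N p) := (h.sylowIn_syl p).1.isPGroup

omit h [Finite Γ] hq in
theorem le_syl {p : ℕ} {X : Subgroup Γ} (hX : X ≤ N) (hXi : A ≤ normalizer (X : Set Γ))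
    (hp : IsPGroup p X) : X ≤ syl A N p :=
  le_sSup ⟨hX, hXi, hp⟩

theorem inf_syl_inv (p : ℕ) [Fact p.Prime] {X : Subgroup Γ} (hXi : A ≤ normalizer (X : Set Γ)) :
    A ≤ normalizer ((X ⊓ syl A N p : Subgroup Γ) : Set Γ) :=
  H8.le_normalizer_inf hXi (h.syl_inv p)

/-- The invariant Sylow subgroup of an invariant subgroup. -/
theorem sylowIn_inf (p : ℕ) [Fact p.Prime] {X : Subgroup Γ} (hX : X ≤ N)
    (hXi : A ≤ normalizer (X : Set Γ)) : H82.SylowIn p (X ⊓ syl A N p) X := by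
  obtain ⟨S, hS, hSi⟩ := H8.exists_inv_sylowIn (q := p) h.isPGroup hXi (h.ndvd_of_le hX)
  have hle : S ≤ X ⊓ syl A N p := le_inf hS.le (le_syl (hS.le.trans hX) hSi hS.isPGroup)
  rwa [hS.eq_of_le ((h.isPGroup_syl p).to_le inf_le_right) inf_le_left hle]

theorem eq_syl_inf {p : ℕ} [Fact p.Prime] {X S : Subgroup Γ} (hX : X ≤ N)
    (hXi : A ≤ normalizer (X : Set Γ)) (hS : H82.SylowIn p S X)
    (hSi : A ≤ normalizer (S : Set Γ)) : S = X ⊓ syl A N p :=
  h.eq_of_inv_sylowIn hX hXi hS hSi (h.sylowIn_inf p hX hXi) (h.inf_syl_inv p hXi)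

/-- An invariant subgroup is generated by its invariant Sylow subgroups. -/
theorem le_of_syl_le {X H : Subgroup Γ} (hX : X ≤ N) (hXi : A ≤ normalizer (X : Set Γ))
    (hH : ∀ s : ℕ, s.Prime → s ∣ Nat.card X → X ⊓ syl A N s ≤ H) : X ≤ H := by
  refine H8.le_of_forall_sylowIn fun s hs => ?_
  haveI := Fact.mk hs
  refine ⟨_, h.sylowIn_inf s hX hXi, ?_⟩
  by_cases hd : s ∣ Nat.card X
  · exact hH s hs hd
  · refine le_trans (le_of_eq ?_) bot_le
    obtain ⟨k, hk⟩ := IsPGroup.iff_card.mp ((h.isPGroup_syl s).to_le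
      (inf_le_right : X ⊓ syl A N s ≤ _))
    refine Subgroup.card_eq_one.mp ?_
    rcases k with _ | k
    · simpa using hk
    · exact absurd ((hk ▸ dvd_pow_self s k.succ_ne_zero : s ∣ _).trans
        (card_dvd_of_le inf_le_left)) hd

theorem pr_le_sup {p r : ℕ} {M H : Subgroup Γ} (hM : IsPR A N p r M) (hp : M ⊓ syl A N p ≤ H)
    (hr : M ⊓ syl A N r ≤ H) : M ≤ H :=
  h.le_of_syl_le hM.le hM.inv fun s hs hd => by
    rcases hM.primes s hs hd with rfl | rfl
    · exact hp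
    · exact hr

omit h hq in
theorem pr_mono {p r : ℕ} {M X : Subgroup Γ} (hM : IsPR A N p r M) (hX : X ≤ M)
    (hXi : A ≤ normalizer (X : Set Γ)) : IsPR A N p r X :=
  ⟨hX.trans hM.le, hXi, fun s hs hd => hM.primes s hs (hd.trans (card_dvd_of_le hX))⟩

omit h hq in
theorem pr_of_pGroup {p r : ℕ} [hp : Fact p.Prime] {X : Subgroup Γ} (hX : X ≤ N)
    (hXi : A ≤ normalizer (X : Set Γ)) (hXp : IsPGroup p X) : IsPR A N p r X := by
  refine ⟨hX, hXi, fun s hs hd => Or.inl ?_⟩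
  obtain ⟨k, hk⟩ := IsPGroup.iff_card.mp hXp
  exact (Nat.prime_dvd_prime_iff_eq hs hp.out).mp (hs.dvd_of_dvd_pow (hk ▸ hd))

omit h hq in
theorem pr_sup {p r : ℕ} {X Y : Subgroup Γ} (hX : IsPR A N p r X) (hY : IsPR A N p r Y)
    (hn : X ≤ normalizer (Y : Set Γ)) : IsPR A N p r (X ⊔ Y) := by
  refine ⟨sup_le hX.le hY.le, fun a ha => ?_, fun s hs hd => ?_⟩
  · rw [mem_normalizer_iff_map_conj_eq, Subgroup.map_sup,
      mem_normalizer_iff_map_conj_eq.mp (hX.inv ha), mem_normalizer_iff_map_conj_eq.mp (hY.inv ha)]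
  · have hd2 : Nat.card ↥(X ⊔ Y) ∣ Nat.card X * Nat.card Y := by
      have hle : X ⊔ Y ≤ normalizer (Y : Set Γ) := sup_le hn Subgroup.le_normalizer
      set K := normalizer (Y : Set Γ)
      have hYK : Y ≤ K := Subgroup.le_normalizer
      have h1 := H1.card_sup_dvd_mul (X.subgroupOf K) (Y.subgroupOf K)
      rwa [← subgroupOf_sup hn hYK, Nat.card_congr (subgroupOfEquivOfLe hle).toEquiv,
        Nat.card_congr (subgroupOfEquivOfLe hn).toEquiv,
        Nat.card_congr (subgroupOfEquivOfLe hYK).toEquiv] at h1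
    rcases (Nat.Prime.dvd_mul hs).mp (hd.trans hd2) with h1 | h1
    · exact hX.primes s hs h1
    · exact hY.primes s hs h1

omit h hq in
theorem pr_solvable {p r : ℕ} [hp : Fact p.Prime] [hr : Fact r.Prime] (hpr : p ≠ r)
    {M : Subgroup Γ} (hM : IsPR A N p r M) : Group.IsSolvable M := by
  have hpos : Nat.card M ≠ 0 := Nat.card_pos.ne'
  refine Cfsg.Agent.S0144.result p r ((Nat.card M).factorization p)
    ((Nat.card M).factorization r) hp.out hr.out ?_
  refine Nat.eq_of_factorization_eq hpos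
    (mul_ne_zero (pow_ne_zero _ hp.out.ne_zero) (pow_ne_zero _ hr.out.ne_zero)) fun s => ?_
  rw [Nat.factorization_mul (pow_ne_zero _ hp.out.ne_zero) (pow_ne_zero _ hr.out.ne_zero),
    hp.out.factorization_pow, hr.out.factorization_pow]
  simp only [Finsupp.coe_add, Pi.add_apply, Finsupp.single_apply]
  by_cases hs : s.Prime ∧ s ∣ Nat.card M
  · rcases hM.primes s hs.1 hs.2 with rfl | rfl
    · simp [Ne.symm hpr]
    · simp [hpr]
  · have h0 : (Nat.card M).factorization s = 0 := by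
      rcases not_and_or.mp hs with hs' | hs'
      · exact Nat.factorization_eq_zero_of_not_prime _ hs'
      · exact Nat.factorization_eq_zero_of_not_dvd hs'
    rw [h0]
    split_ifs with e1 e2 <;> first | rfl | (subst_vars; simp_all)

/-- The Hall `{p, r}`-subgroup of an invariant solvable subgroup. -/
theorem isPR_hall {p r : ℕ} [Fact p.Prime] [Fact r.Prime] {X : Subgroup Γ}
    (hX : X ≤ N) (hXi : A ≤ normalizer (X : Set Γ)) (hXs : Group.IsSolvable X) :
    IsPR A N p r ((X ⊓ syl A N p) ⊔ (X ⊓ syl A N r)) := by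
  haveI := hXs
  obtain ⟨m, n, hmn, hcop, hm, hn⟩ :=
    H1.exists_prime_split (fun s => s = p ∨ s = r) (Nat.card_pos (α := X)).ne'
  have hcA : (Nat.card A).Coprime (Nat.card X) := by
    rw [h.card]
    exact (hq.out.coprime_iff_not_dvd.mpr (h.ndvd_of_le hX)).pow_left 2
  obtain ⟨H, hHX, hHc, hHi⟩ := H1.exists_invariant_hall hXi hcA m n hmn hcop
  have hH : IsPR A N p r H := ⟨hHX.trans hX, hHi, fun s hs hd => hm s hs (hHc ▸ hd)⟩
  have key : ∀ s : ℕ, [Fact s.Prime] → (s = p ∨ s = r) → X ⊓ syl A N s ≤ H := by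
    intro s hs hsp
    have hS := h.sylowIn_inf s (hHX.trans hX) hHi
    have hS' : H82.SylowIn s (H ⊓ syl A N s) X := by
      refine ⟨inf_le_left.trans hHX, hS.isPGroup, fun hd => ?_⟩
      rw [← relIndex_mul_relIndex _ H X inf_le_left hHX] at hd
      rcases (Nat.Prime.dvd_mul hs.out).mp hd with h1 | h1
      · exact hS.not_dvd h1
      · have hidx : H.relIndex X = n := Nat.eq_of_mul_eq_mul_left (hHc ▸ Nat.card_pos)
          (((hHc ▸ H82.card_mul_relIndex hHX : m * H.relIndex X = Nat.card X)).trans hmn)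
        exact hn s hs.out (hidx ▸ h1) hsp
    exact (h.eq_syl_inf hX hXi hS' (h.inf_syl_inv s hHi)).ge.trans inf_le_left
  refine pr_mono hH (sup_le (key p (Or.inl rfl)) (key r (Or.inr rfl))) ?_
  intro a ha
  rw [mem_normalizer_iff_map_conj_eq, Subgroup.map_sup,
    mem_normalizer_iff_map_conj_eq.mp (h.inf_syl_inv p hXi ha),
    mem_normalizer_iff_map_conj_eq.mp (h.inf_syl_inv r hXi ha)]

omit h hq in
/-- If a group `U` of order prime to `p` is normalised by a `p`-group `S` and `m` normalises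
their join, then a translate of `m` by an element of `U` normalises `S`. -/
theorem exists_mul_mem_normalizer {p : ℕ} [hp : Fact p.Prime] {S U : Subgroup Γ}
    (hS : IsPGroup p S) (hU : ¬ p ∣ Nat.card U) (hSU : S ≤ normalizer (U : Set Γ)) {m : Γ}
    (hm : m ∈ normalizer ((S ⊔ U : Subgroup Γ) : Set Γ)) :
    ∃ u ∈ U, u⁻¹ * m ∈ normalizer (S : Set Γ) := by
  set J := S ⊔ U
  have hJ : J ≤ normalizer (U : Set Γ) := sup_le hSU Subgroup.le_normalizer
  have hset : ((S ⊔ U : Subgroup Γ) : Set Γ) = (S : Set Γ) * (U : Set Γ) :=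
    Subgroup.coe_mul_of_left_le_normalizer_right S U hSU
  have hS1 : H82.SylowIn p S J := by
    refine ⟨le_sup_left, hS, fun hd => hU ?_⟩
    set K := normalizer (U : Set Γ)
    have hUK : U ≤ K := Subgroup.le_normalizer
    have h1 := H1.card_sup_dvd_mul (S.subgroupOf K) (U.subgroupOf K)
    rw [← subgroupOf_sup hSU hUK, Nat.card_congr (subgroupOfEquivOfLe hJ).toEquiv,
      Nat.card_congr (subgroupOfEquivOfLe hSU).toEquiv,
      Nat.card_congr (subgroupOfEquivOfLe hUK).toEquiv,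
      ← H82.card_mul_relIndex (le_sup_left : S ≤ J)] at h1
    exact hd.trans (Nat.dvd_of_mul_dvd_mul_left Nat.card_pos h1)
  have hS2 : H82.SylowIn p (S.map (MulAut.conj m).toMonoidHom) J := by
    have := hS1.map_equiv m
    rwa [H82.mem_normalizer_iff_map.mp hm] at this
  obtain ⟨j, hj, hjm⟩ := hS1.exists_conj hS2
  have hj' : j ∈ (S : Set Γ) * (U : Set Γ) := hset ▸ hj
  obtain ⟨s, hs, u, hu, rfl⟩ := Set.mem_mul.mp hj'
  have hu' : s * u * s⁻¹ ∈ U := (mem_normalizer_iff.mp (hSU hs) u).mp hu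
  refine ⟨s * u * s⁻¹, hu', H82.mem_normalizer_iff_map.mpr ?_⟩
  have he : s * u = (s * u * s⁻¹) * s := by group
  rw [he, H82.map_conj_mul, H82.mem_normalizer_iff_map.mp (Subgroup.le_normalizer hs)] at hjm
  rw [H82.map_conj_mul, ← hjm, H82.map_conj_inv_cancel]

end Fpf

/-- Passage to the quotient of the normaliser of `L` by `L`. -/
theorem Fpf.of_quotient {L : Subgroup Γ} (expo : ∀ a ∈ A, a ^ q = 1)
    (comm : ∀ a ∈ A, ∀ b ∈ A, a * b = b * a) (card : Nat.card A = q ^ 2)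
    (inv : A ≤ normalizer (N : Set Γ)) (ndvd : ¬ q ∣ Nat.card N) (hLN : L ≤ N)
    (hfix : N ⊓ centralizer (A : Set Γ) ≤ L)
    (abel : ∀ a ∈ A, a ≠ 1 → ∀ x ∈ N, ∀ y ∈ N, x * a = a * x → y * a = a * y → x * y = y * x)
    (K : Subgroup Γ) (hAK : A ≤ K) (hLK : L ≤ K) [hn : (L.subgroupOf K).Normal] :
    Fpf q ((A.subgroupOf K).map (QuotientGroup.mk' (L.subgroupOf K)))
      ((N.subgroupOf K).map (QuotientGroup.mk' (L.subgroupOf K))) := by
  set L' := L.subgroupOf K with hL'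
  set f := QuotientGroup.mk' L' with hf
  have hLq : ¬ q ∣ Nat.card L' := by
    rw [hL', Nat.card_congr (subgroupOfEquivOfLe hLK).toEquiv]
    exact fun hd => ndvd (hd.trans (card_dvd_of_le hLN))
  have hinj : ∀ a ∈ A.subgroupOf K, f a = 1 → a = 1 := by
    intro a ha h1
    have haL : (a : Γ) ∈ L := by
      rw [hf, QuotientGroup.mk'_apply, QuotientGroup.eq_one_iff] at h1
      exact h1
    by_contra hne
    have hne' : (a : Γ) ≠ 1 := fun e => hne (Subtype.ext e)
    refine ndvd ?_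
    rw [← orderOf_eq_prime (expo a ha) hne', ← Nat.card_zpowers]
    exact card_dvd_of_le (zpowers_le.mpr (hLN haL))
  have hlift : ∀ (E : Subgroup K), IsPGroup q E → ∀ z ∈ (N.subgroupOf K).map f,
      z ∈ centralizer ((E.map f : Subgroup _) : Set (K ⧸ L')) →
      ∃ x : K, (x : Γ) ∈ N ∧ x ∈ centralizer (E : Set K) ∧ f x = z := by
    intro E hE z hz hzc
    rw [hf, H84.centralizer_map_mk' L' hE hLq] at hzc
    obtain ⟨x, hx, rfl⟩ := hzc
    obtain ⟨y, hy, hyx⟩ := hz
    refine ⟨x, ?_, hx, rfl⟩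
    have h1 : x⁻¹ * y ∈ L' := by
      rw [← QuotientGroup.ker_mk' L', MonoidHom.mem_ker, map_mul, map_inv, ← hf, hyx,
        inv_mul_cancel]
    have h2 : (x : Γ)⁻¹ * y ∈ N := hLN h1
    have h3 := mul_mem (show (y : Γ) ∈ N from hy) (inv_mem h2)
    simpa using h3
  refine ⟨?_, ?_, ?_, ?_, ?_, ?_, ?_⟩
  · rintro _ ⟨a, ha, rfl⟩
    rw [← map_pow, show a ^ q = 1 from Subtype.ext (expo a ha), map_one]
  · rintro _ ⟨a, ha, rfl⟩ _ ⟨b, hb, rfl⟩
    rw [← map_mul, ← map_mul, show a * b = b * a from Subtype.ext (comm a ha b hb)]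
  · rw [← card, ← Nat.card_congr (subgroupOfEquivOfLe hAK).toEquiv]
    refine (Nat.card_congr (Equiv.ofBijective
      (fun a : A.subgroupOf K => (⟨f a, mem_map_of_mem f a.2⟩ : (A.subgroupOf K).map f)) ⟨?_, ?_⟩)).symm
    · intro a b hab
      have h1 : f ((a : K)⁻¹ * b) = 1 := by
        rw [map_mul, map_inv, show f a = f b from congrArg Subtype.val hab, inv_mul_cancel]
      exact Subtype.ext (inv_mul_eq_one.mp (hinj _ (mul_mem (inv_mem a.2) b.2) h1))
    · rintro ⟨_, a, ha, rfl⟩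
      exact ⟨⟨a, ha⟩, rfl⟩
  · refine le_normalizer_iff.mpr ?_
    rintro _ ⟨a, ha, rfl⟩ _ ⟨x, hx, rfl⟩
    refine ⟨a * x * a⁻¹, ?_, by simp⟩
    exact (mem_normalizer_iff.mp (inv ha) x).mp hx
  · intro hd
    have h1 := hd.trans (card_map_dvd f (H := N.subgroupOf K))
    have h2 : Nat.card ↥(N.subgroupOf K) = Nat.card ↥(N ⊓ K : Subgroup Γ) := by
      rw [← inf_subgroupOf_right, Nat.card_congr (subgroupOfEquivOfLe inf_le_right).toEquiv]
    exact ndvd ((h2 ▸ h1).trans (card_dvd_of_le inf_le_left))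
  · rw [eq_bot_iff]
    rintro z ⟨hz, hzc⟩
    obtain ⟨x, hxN, hxc, rfl⟩ := hlift _ ((IsPGroup.of_card card).comap_subtype) z hz hzc
    rw [Subgroup.mem_bot, hf, QuotientGroup.mk'_apply, QuotientGroup.eq_one_iff]
    exact hfix ⟨hxN, mem_centralizer_iff.mpr fun a ha =>
      congrArg Subtype.val (mem_centralizer_iff.mp hxc ⟨a, hAK ha⟩ ha)⟩
  · rintro _ ⟨a, ha, rfl⟩ ha1 u hu v hv hua hva
    have hE : IsPGroup q (zpowers a) := by
      refine IsPGroup.of_card_dvd_pow (p := q) (n := 1) ?_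
      rw [Nat.card_zpowers, pow_one]
      exact orderOf_dvd_of_pow_eq_one (Subtype.ext (expo a ha))
    have hcent : ∀ w, w * f a = f a * w →
        w ∈ centralizer (((zpowers a).map f : Subgroup _) : Set (K ⧸ L')) := fun w hw => by
      rw [MonoidHom.map_zpowers, zpowers_eq_closure, centralizer_closure,
        mem_centralizer_singleton_iff]
      exact hw
    obtain ⟨x, hx, hxc, rfl⟩ := hlift _ hE u hu (hcent u hua)
    obtain ⟨y, hy, hyc, rfl⟩ := hlift _ hE v hv (hcent v hva)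
    have ha1' : (a : Γ) ≠ 1 := fun e => ha1 (by rw [show a = 1 from Subtype.ext e, map_one])
    rw [← map_mul, ← map_mul, show x * y = y * x from Subtype.ext (abel a ha ha1' x hx y hy
      (congrArg Subtype.val (mem_centralizer_iff.mp hxc a (mem_zpowers a)).symm)
      (congrArg Subtype.val (mem_centralizer_iff.mp hyc a (mem_zpowers a)).symm))]

end H72.AbelianFour
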