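import Cfsg.Agent.H72.AbelianFour.Core
import Cfsg.Agent.H79.GlaubermanThompson

/-!
Normal `p`-complements in a minimal counterexample: Burnside's transfer and the
Glauberman–Thompson criterion.
-/

set_option autoImplicit false

open scoped commutatorElement Pointwise
open Subgroup

namespace H72.AbelianFour

/-- A minimal counterexample. -/
structure Min {Γ : Type*} [Group Γ] (q : ℕ) (A N : Subgroup Γ) : Prop extends Fpf q A N where
  notSolv : ¬ Group.IsSolvable N
  solv : ∀ X ≤ N, X ≠ N → A ≤ normalizer (X : Set Γ) → Group.IsSolvable X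
  simple : ∀ X ≤ N, A ≤ normalizer (X : Set Γ) → N ≤ normalizer (X : Set Γ) → X = ⊥ ∨ X = N
  q3 : 3 ≤ q

/-- A normal `p`-complement of a subgroup, in the ambient group. -/
structure PComp {Γ : Type*} [Group Γ] (p : ℕ) (X K : Subgroup Γ) : Prop where
  le : K ≤ X
  norm : X ≤ normalizer (K : Set Γ)
  ndvd : ¬ p ∣ Nat.card K
  mem : ∀ x ∈ X, (orderOf x).Coprime p → x ∈ K

universe u

variable {Γ : Type u} [Group Γ] [Finite Γ] {q : ℕ} [hq : Fact q.Prime] {A N : Subgroup Γ}

theorem PComp.inv {p : ℕ} [hp : Fact p.Prime] {X K B : Subgroup Γ} (hK : PComp p X K)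
    (hB : B ≤ normalizer (X : Set Γ)) : B ≤ normalizer (K : Set Γ) := by
  refine le_normalizer_iff.mpr fun b hb x hx => ?_
  refine hK.mem _ ((mem_normalizer_iff.mp (hB hb) x).mp (hK.le hx)) ?_
  rw [show b * x * b⁻¹ = MulAut.conj b x from rfl, MulEquiv.orderOf_eq]
  refine (Nat.Coprime.coprime_dvd_left ?_ (hp.out.coprime_iff_not_dvd.mpr hK.ndvd).symm)
  rw [← Nat.card_zpowers]
  exact card_dvd_of_le (zpowers_le.mpr hx)

theorem mem_of_sup {p : ℕ} [hp : Fact p.Prime] {X K P : Subgroup Γ} (hP : IsPGroup p P)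
    (hPK : P ≤ normalizer (K : Set Γ)) (hX : X ≤ K ⊔ P) {x : Γ} (hx : x ∈ X)
    (hxo : (orderOf x).Coprime p) : x ∈ K := by
  set J := K ⊔ P
  have hJ : J ≤ normalizer (K : Set Γ) := sup_le Subgroup.le_normalizer hPK
  haveI : (K.subgroupOf J).Normal := normal_subgroupOf_of_le_normalizer hJ
  have h1 : (K.subgroupOf J).index ∣ Nat.card P := by
    set L := normalizer (K : Set Γ)
    have hKL : K ≤ L := Subgroup.le_normalizer
    have h2 := H1.card_sup_dvd_mul (P.subgroupOf L) (K.subgroupOf L)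
    rw [← subgroupOf_sup hPK hKL, Nat.card_congr (subgroupOfEquivOfLe (sup_le hPK hKL)).toEquiv,
      Nat.card_congr (subgroupOfEquivOfLe hPK).toEquiv,
      Nat.card_congr (subgroupOfEquivOfLe hKL).toEquiv, sup_comm,
      ← H82.card_mul_relIndex (le_sup_left : K ≤ J), mul_comm (Nat.card P)] at h2
    exact Nat.dvd_of_mul_dvd_mul_left Nat.card_pos h2
  have h3 : x ^ (K.subgroupOf J).index ∈ K :=
    (K.subgroupOf J).pow_index_mem (⟨x, hX hx⟩ : J)
  obtain ⟨k, hk⟩ := IsPGroup.iff_card.mp hP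
  obtain ⟨m, hm⟩ := exists_pow_eq_self_of_coprime (x := x)
    (n := (K.subgroupOf J).index) ((hxo.pow_right k).coprime_dvd_right (hk ▸ h1)).symm
  exact hm ▸ pow_mem h3 m

namespace Fpf

variable (h : Fpf q A N) {p : ℕ} [hp : Fact p.Prime]
include h

theorem le_sup_of_pComp {X K : Subgroup Γ} (hX : X ≤ N) (hXi : A ≤ normalizer (X : Set Γ))
    (hK : PComp p X K) : X ≤ K ⊔ (X ⊓ syl A N p) := by
  refine h.le_of_syl_le hX hXi fun s hs _ => ?_
  by_cases hsp : s = p
  · subst hsp; exact le_sup_right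
  haveI := Fact.mk hs
  intro x hx
  refine (le_sup_left : K ≤ _) (hK.mem x hx.1 ?_)
  obtain ⟨k, hk⟩ := IsPGroup.iff_orderOf.mp (h.isPGroup_syl s) ⟨x, hx.2⟩
  rw [Subgroup.orderOf_mk] at hk
  rw [hk]
  exact ((Nat.coprime_primes hs hp.out).mpr hsp).pow_left k

theorem syl_inf_le {X H : Subgroup Γ} (hX : X ≤ N) (hXi : A ≤ normalizer (X : Set Γ))
    (hHX : H ≤ X) (hHi : A ≤ normalizer (H : Set Γ)) (hidx : ¬ p ∣ H.relIndex X) :
    X ⊓ syl A N p ≤ H := by
  have hS := h.sylowIn_inf p (hHX.trans hX) hHi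
  have hS' : H82.SylowIn p (H ⊓ syl A N p) X := by
    refine ⟨inf_le_left.trans hHX, hS.isPGroup, fun hd => ?_⟩
    rw [← relIndex_mul_relIndex _ H X inf_le_left hHX] at hd
    rcases (Nat.Prime.dvd_mul hp.out).mp hd with h1 | h1
    · exact hS.not_dvd h1
    · exact hidx h1
  exact (h.eq_syl_inf hX hXi hS' (h.inf_syl_inv p hHi)).ge.trans inf_le_left

/-- If the invariant subgroups of order prime to `p` centralise the invariant `p`-subgroups that
they normalise, then there is a normal `p`-complement. -/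
theorem exists_pComp :
    ∀ X : Subgroup Γ, X ≤ N → A ≤ normalizer (X : Set Γ) → Group.IsSolvable X →
      (∀ s : ℕ, s.Prime → s ≠ p → ∀ R : Subgroup Γ, R ≤ X → IsPGroup p R →
        A ≤ normalizer (R : Set Γ) →
        X ⊓ syl A N s ⊓ normalizer (R : Set Γ) ≤ centralizer (R : Set Γ)) →
      ∃ K, PComp p X K := by
  intro X
  induction hn : Nat.card X using Nat.strong_induction_on generalizing X with
  | _ n ih =>
  intro hX hXi hXs hcent
  by_cases hbot : X = ⊥
  · refine ⟨⊥, bot_le, ?_, ?_, fun x hx _ => by rwa [hbot] at hx⟩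
    · rw [hbot]; exact bot_le
    · rw [Subgroup.card_bot]; exact hp.out.not_dvd_one
  haveI := hXs
  haveI : Nontrivial ↥X := (Subgroup.nontrivial_iff_ne_bot X).mpr hbot
  set D := ⁅X, X⁆ with hD
  have hDX : D ≤ X := commutator_le_self X
  have hDi : A ≤ normalizer (D : Set Γ) := H83.le_normalizer_commutator hXi hXi
  have hDn : X ≤ normalizer (D : Set Γ) :=
    H83.le_normalizer_commutator Subgroup.le_normalizer Subgroup.le_normalizer
  have hDne : D ≠ X := by
    intro e
    refine (Group.IsSolvable.commutator_lt_top_of_nontrivial ↥X).ne ?_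
    apply Subgroup.map_injective X.subtype_injective
    rw [map_subtype_commutator, ← MonoidHom.range_eq_map, range_subtype]
    exact e
  have hrec : ∀ Y : Subgroup Γ, Y ≤ X → Y ≠ X → A ≤ normalizer (Y : Set Γ) →
      ∃ K, PComp p Y K := by
    intro Y hY hne hYi
    refine ih (Nat.card Y) (hn ▸ lt_of_le_of_ne (card_le_of_le hY)
      fun e => hne (eq_of_le_of_card_ge hY e.ge)) Y rfl (hY.trans hX) hYi
      (H1.isSolvable_mono hXs hY) fun s hs hsp R hRY hR hRi => ?_
    exact le_trans (inf_le_inf_right _ (inf_le_inf_right _ hY))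
      (hcent s hs hsp R (hRY.trans hY) hR hRi)
  -- an invariant Hall subgroup of order prime to `p`
  obtain ⟨m, n', hmn, hcop, hm, hn'⟩ :=
    H1.exists_prime_split (fun s => s ≠ p) (Nat.card_pos (α := X)).ne'
  have hcA : (Nat.card A).Coprime (Nat.card X) := by
    rw [h.card]
    exact (hq.out.coprime_iff_not_dvd.mpr (h.ndvd_of_le hX)).pow_left 2
  obtain ⟨H0, hH0X, hH0c, hH0i⟩ := H1.exists_invariant_hall hXi hcA m n' hmn hcop
  have hH0p : ¬ p ∣ Nat.card H0 := fun hd => hm p hp.out (hH0c ▸ hd) rfl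
  have hXH0 : X ≤ H0 ⊔ (X ⊓ syl A N p) := by
    refine h.le_of_syl_le hX hXi fun s hs _ => ?_
    by_cases hsp : s = p
    · subst hsp; exact le_sup_right
    haveI := Fact.mk hs
    refine (h.syl_inf_le hX hXi hH0X hH0i fun hd => ?_).trans le_sup_left
    have hidx : H0.relIndex X = n' := Nat.eq_of_mul_eq_mul_left (hH0c ▸ Nat.card_pos)
      (((hH0c ▸ H82.card_mul_relIndex hH0X : m * H0.relIndex X = Nat.card X)).trans hmn)
    exact hn' s hs (hidx ▸ hd) hsp
  set Px := X ⊓ syl A N p with hPx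
  have hPxp : IsPGroup p Px := (h.isPGroup_syl p).to_le inf_le_right
  by_cases hPD : Px ≤ D
  · -- the Sylow subgroup lies in the derived subgroup
    obtain ⟨K, hK⟩ := hrec D hDX hDne hDi
    have hKn : X ≤ normalizer (K : Set Γ) := hK.inv hDn
    have hJ : Px ⊔ K = D := le_antisymm (sup_le hPD hK.le)
      ((h.le_sup_of_pComp (hDX.trans hX) hDi hK).trans
        (sup_le le_sup_right ((inf_le_inf_right _ hDX).trans le_sup_left)))
    set H := X ⊓ normalizer (Px : Set Γ) with hH
    have hfr : X ≤ K ⊔ H := by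
      intro x hx
      obtain ⟨u, hu, hux⟩ := exists_mul_mem_normalizer (U := K) hPxp hK.ndvd
        (inf_le_left.trans hKn) (m := x) (by rw [hJ]; exact hDn hx)
      have h1 : u⁻¹ * x ∈ H := ⟨X.mul_mem (X.inv_mem (hDX (hK.le hu))) hx, hux⟩
      have h2 := mul_mem (le_sup_left (b := H) hu) (le_sup_right (a := K) h1)
      rwa [mul_inv_cancel_left] at h2
    by_cases hHX : H = X
    · refine ⟨H0, hH0X, ?_, hH0p, fun x hx hxo => ?_⟩
      · have hc : H0 ≤ centralizer (Px : Set Γ) := by
          refine h.le_of_syl_le (hH0X.trans hX) hH0i fun s hs hd => ?_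
          intro y hy
          exact hcent s hs (hm s hs (hH0c ▸ hd)) Px inf_le_left hPxp (h.inf_syl_inv p hXi)
            ⟨⟨hH0X hy.1, hy.2⟩, (hHX.ge (hH0X hy.1) : y ∈ H).2⟩
        exact hXH0.trans (sup_le Subgroup.le_normalizer
          ((le_centralizer_iff.mp hc).trans (centralizer_le_normalizer _)))
      · refine mem_of_sup hPxp ?_ hXH0 hx hxo
        have hc : H0 ≤ centralizer (Px : Set Γ) := by
          refine h.le_of_syl_le (hH0X.trans hX) hH0i fun s hs hd => ?_
          intro y hy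
          exact hcent s hs (hm s hs (hH0c ▸ hd)) Px inf_le_left hPxp (h.inf_syl_inv p hXi)
            ⟨⟨hH0X hy.1, hy.2⟩, (hHX.ge (hH0X hy.1) : y ∈ H).2⟩
        exact (le_centralizer_iff.mp hc).trans (centralizer_le_normalizer _)
    · have hHi : A ≤ normalizer (H : Set Γ) :=
        H8.le_normalizer_inf hXi (le_normalizer_normalizer (h.inf_syl_inv p hXi))
      obtain ⟨K2, hK2⟩ := hrec H inf_le_left hHX hHi
      have hK2X : K2 ≤ X := hK2.le.trans inf_le_left
      have hXK : X ≤ normalizer ((K ⊔ K2 : Subgroup Γ) : Set Γ) := by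
        refine hfr.trans (sup_le ((le_sup_left : K ≤ K ⊔ K2).trans Subgroup.le_normalizer) ?_)
        intro g hg
        rw [mem_normalizer_iff_map_conj_eq, Subgroup.map_sup,
          mem_normalizer_iff_map_conj_eq.mp (hKn hg.1),
          mem_normalizer_iff_map_conj_eq.mp (hK2.norm hg)]
      refine ⟨K ⊔ K2, sup_le (hK.le.trans hDX) hK2X, hXK, fun hd => ?_, fun x hx hxo => ?_⟩
      · set L := normalizer (K : Set Γ)
        have hKL : K ≤ L := Subgroup.le_normalizer
        have hK2L : K2 ≤ L := hK2X.trans hKn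
        have h1 := H1.card_sup_dvd_mul (K2.subgroupOf L) (K.subgroupOf L)
        rw [← subgroupOf_sup hK2L hKL, Nat.card_congr (subgroupOfEquivOfLe (sup_le hK2L hKL)).toEquiv,
          Nat.card_congr (subgroupOfEquivOfLe hK2L).toEquiv,
          Nat.card_congr (subgroupOfEquivOfLe hKL).toEquiv, sup_comm] at h1
        rcases (Nat.Prime.dvd_mul hp.out).mp (hd.trans h1) with h2 | h2
        · exact hK2.ndvd h2
        · exact hK.ndvd h2
      · refine mem_of_sup hPxp (inf_le_left.trans hXK) (hfr.trans (sup_le ?_ ?_)) hx hxo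
        · exact le_sup_left.trans le_sup_left
        · exact (h.le_sup_of_pComp (inf_le_left.trans hX) hHi hK2).trans
            (sup_le_sup le_sup_right (inf_le_inf_right _ inf_le_left))
  · set D2 := D ⊔ H0 with hD2
    have hD2X : D2 ≤ X := sup_le hDX hH0X
    have hD2n : X ≤ normalizer (D2 : Set Γ) := by
      refine Subgroup.le_normalizer_iff.mpr fun g hg x hx => ?_
      have h1 : ⁅g, x⁆ ∈ D2 := (le_sup_left : D ≤ D2) (commutator_mem_commutator hg (hD2X hx))
      have h2 := mul_mem h1 hx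
      simpa [commutatorElement_def, mul_assoc] using h2
    have hD2ne : D2 ≠ X := by
      intro e
      refine hPD (h.syl_inf_le hX hXi hDX hDi fun hd => ?_)
      have hH0D : H0 ≤ normalizer (D : Set Γ) := hH0X.trans hDn
      set L := normalizer (D : Set Γ)
      have hDL : D ≤ L := Subgroup.le_normalizer
      have h1 := H1.card_sup_dvd_mul (H0.subgroupOf L) (D.subgroupOf L)
      rw [← subgroupOf_sup hH0D hDL, Nat.card_congr (subgroupOfEquivOfLe (sup_le hH0D hDL)).toEquiv,
        Nat.card_congr (subgroupOfEquivOfLe hH0D).toEquiv,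
        Nat.card_congr (subgroupOfEquivOfLe hDL).toEquiv, sup_comm, ← hD2, e,
        ← H82.card_mul_relIndex hDX, mul_comm (Nat.card H0)] at h1
      exact hH0p (hd.trans (Nat.dvd_of_mul_dvd_mul_left Nat.card_pos h1))
    have hD2i : A ≤ normalizer (D2 : Set Γ) := by
      intro a ha
      rw [mem_normalizer_iff_map_conj_eq, hD2, Subgroup.map_sup,
        mem_normalizer_iff_map_conj_eq.mp (hDi ha), mem_normalizer_iff_map_conj_eq.mp (hH0i ha)]
    obtain ⟨K, hK⟩ := hrec D2 hD2X hD2ne hD2i
    refine ⟨K, hK.le.trans hD2X, hK.inv hD2n, hK.ndvd, fun x hx hxo => hK.mem x ?_ hxo⟩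
    exact mem_of_sup hPxp (inf_le_left.trans hD2n)
      (hXH0.trans (sup_le_sup_right le_sup_right _)) hx hxo

end Fpf

namespace Min

variable (h : Min q A N) {p : ℕ} [hp : Fact p.Prime]
include h

omit hp in
theorem ne_of_solvable {X : Subgroup Γ} (hX : Group.IsSolvable X) : X ≠ N := fun e =>
  h.notSolv (e ▸ hX)

theorem ne_of_pGroup {X : Subgroup Γ} (hX : IsPGroup p X) : X ≠ N := by
  haveI := hX.isNilpotent
  exact h.ne_of_solvable inferInstance

omit hp in
theorem normalizer_ne {X : Subgroup Γ} (hX : X ≤ N) (hXi : A ≤ normalizer (X : Set Γ))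
    (hbot : X ≠ ⊥) (hne : X ≠ N) : N ⊓ normalizer (X : Set Γ) ≠ N := fun e =>
  (h.simple X hX hXi (inf_eq_left.mp e)).elim hbot hne

theorem false_of_pComp (hP : syl A N p ≠ ⊥) {K : Subgroup Γ} (hK : PComp p N K) : False := by
  rcases h.simple K hK.le (hK.inv h.inv) hK.norm with e | e
  · refine h.ne_of_pGroup (h.toFpf.isPGroup_syl p) (le_antisymm (h.toFpf.syl_le p) ?_)
    have := h.toFpf.le_sup_of_pComp le_rfl h.inv hK
    rw [e, bot_sup_eq] at this
    exact this.trans inf_le_right
  · apply hP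
    obtain ⟨k, hk⟩ := IsPGroup.iff_card.mp (h.toFpf.isPGroup_syl p)
    refine Subgroup.card_eq_one.mp ?_
    rcases k with _ | k
    · simpa using hk
    · exact absurd ((hk ▸ dvd_pow_self p k.succ_ne_zero : p ∣ _).trans
        (card_dvd_of_le (h.toFpf.syl_le p))) (e ▸ hK.ndvd)

/-- No nontrivial invariant Sylow subgroup is fixed by an operator. -/
theorem not_le_centralizer (hP : syl A N p ≠ ⊥) {a : Γ} (ha : a ∈ A) (ha1 : a ≠ 1) :
    ¬ syl A N p ≤ centralizer ({a} : Set Γ) := by
  intro hPa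
  have h0 := h.toFpf
  set P := syl A N p with hPdef
  have hPN : P ≤ N := h0.syl_le p
  have hPab : P ≤ centralizer (P : Set Γ) := fun x hx => mem_centralizer_iff.mpr fun y hy =>
    h0.abel a ha ha1 y (hPN hy) x (hPN hx) (mem_centralizer_singleton_iff.mp (hPa hy))
      (mem_centralizer_singleton_iff.mp (hPa hx))
  set X := N ⊓ normalizer (P : Set Γ) with hX
  have hXi : A ≤ normalizer (X : Set Γ) :=
    H8.le_normalizer_inf h.inv (le_normalizer_normalizer (h0.syl_inv p))
  by_cases hXC : X ≤ centralizer (P : Set Γ)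
  · -- Burnside's transfer
    obtain ⟨S, hS⟩ := (h0.sylowIn_syl p).1.exists_sylow
    have hPS : P = (S : Subgroup N).map N.subtype := hS.symm
    have hnc : normalizer ((S : Subgroup N) : Set N) ≤ centralizer ((S : Subgroup N) : Set N) := by
      intro x hx
      have hxP : (x : Γ) ∈ normalizer (P : Set Γ) := by
        rw [hPS]
        exact Subgroup.le_normalizer_map N.subtype ⟨x, hx, rfl⟩
      have hxC : (x : Γ) ∈ centralizer (P : Set Γ) := hXC ⟨x.2, hxP⟩
      rw [mem_centralizer_iff]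
      intro y hy
      refine Subtype.ext ?_
      exact mem_centralizer_iff.mp hxC y (hPS ▸ ⟨y, hy, rfl⟩)
    set f := MonoidHom.transferSylow S hnc with hf
    have hcompl := MonoidHom.ker_transferSylow_isComplement' S hnc
    have hK : ¬ p ∣ Nat.card f.ker := MonoidHom.not_dvd_card_ker_transferSylow S hnc
    clear hcompl hf
    clear_value f
    have hKn : f.ker.Normal := MonoidHom.normal_ker f
    refine h.false_of_pComp hP (K := f.ker.map N.subtype) ⟨map_subtype_le _, ?_, ?_, ?_⟩
    · refine le_normalizer_iff.mpr ?_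
      rintro g hg _ ⟨x, hx, rfl⟩
      exact ⟨⟨g, hg⟩ * x * ⟨g, hg⟩⁻¹, hKn.conj_mem x hx _, rfl⟩
    · rwa [card_map_of_injective N.subtype_injective]
    · intro x hx hxo
      refine ⟨⟨x, hx⟩, ?_, rfl⟩
      obtain ⟨k, hk⟩ := IsPGroup.iff_card.mp S.isPGroup'
      rw [SetLike.mem_coe, MonoidHom.mem_ker, ← orderOf_eq_one_iff]
      refine Nat.eq_one_of_dvd_coprimes (hxo.pow_right k) ?_ (hk ▸ orderOf_dvd_natCard _)
      exact (orderOf_map_dvd f _).trans (by rw [Subgroup.orderOf_mk])
  · -- a component moving `P`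
    apply hXC
    refine h0.le_of_syl_le inf_le_left hXi fun s hs _ => ?_
    haveI := Fact.mk hs
    by_cases hsp : s = p
    · subst hsp; exact inf_le_right.trans hPab
    set T := X ⊓ syl A N s with hT
    have hTi : A ≤ normalizer (T : Set Γ) := h0.inf_syl_inv s hXi
    refine h0.le_of_comp_le (inf_le_left.trans inf_le_left) hTi fun e he he1 => ?_
    by_cases hea : e ∈ zpowers a
    · intro x hx
      rw [Fpf.comp_congr (h0.zpowers_eq_of_mem ha ha1 he1 hea)] at hx
      refine mem_centralizer_iff.mpr fun y hy => ?_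
      exact h0.abel a ha ha1 y (hPN hy) x hx.1.1.1 (mem_centralizer_singleton_iff.mp (hPa hy))
        (mem_comp.mp hx).2
    obtain ⟨d, hd, hd1, hda, hde⟩ := h0.exists_third h.q3 ha he
    refine h0.centralizes_of_comp (h0.isPGroup_syl p) hPN (h0.syl_inv p)
      (inf_le_left.trans (inf_le_left.trans inf_le_left)) (h0.comp_inv hTi he)
      (inf_le_left.trans (inf_le_left.trans inf_le_right))
      (h0.coprime_syl (Ne.symm hsp) (inf_le_left.trans inf_le_right)) he he1 inf_le_right hd hde ?_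
    intro u hu
    have huP : u ∈ P := H1.commutator_le_left_of_le_normalizer
      (inf_le_left.trans (inf_le_left.trans inf_le_right)) hu.1
    have hu1 : u = 1 := h0.eq_one_of_fixed ha ha1 hd hda (hPN huP)
      (mem_centralizer_singleton_iff.mp (hPa huP)) (mem_comp.mp hu).2
    rw [hu1]
    exact one_mem _

/-- The consequence of the Glauberman–Thompson criterion. -/
theorem exists_line_moving (hp2 : p ≠ 2) (hP : syl A N p ≠ ⊥) :
    ∃ e ∈ A, e ≠ 1 ∧ ∀ d ∈ A, d ∉ zpowers e → comp (syl A N p) d ≠ ⊥ := by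
  have h0 := h.toFpf
  obtain ⟨S, hS⟩ := (h0.sylowIn_syl p).1.exists_sylow
  set D : Subgroup N := (S : Subgroup N) with hD
  set Z := (H79.ZJ p true D).map N.subtype with hZ
  have hDne : D ≠ ⊥ := fun e => hP (by rw [← hS, e, Subgroup.map_bot])
  have hZi : A ≤ normalizer (Z : Set Γ) := by
    refine le_normalizer_iff.mpr ?_
    rintro a ha _ ⟨z, hz, rfl⟩
    let φ : MulAut N := N.normalizerMonoidHom ⟨a, h.inv ha⟩
    have hDφ : D.map φ.toMonoidHom ≤ D := by
      rintro _ ⟨x, hx, rfl⟩
      have h1 : a * (x : Γ) * a⁻¹ ∈ (D.map N.subtype) := by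
        rw [hS]
        exact (mem_normalizer_iff.mp (h0.syl_inv p ha) _).mp (hS ▸ ⟨x, hx, rfl⟩)
      obtain ⟨y, hy, hyx⟩ := h1
      rwa [show φ.toMonoidHom x = y from Subtype.ext hyx.symm]
    have hDφ' : D.map φ.toMonoidHom = D := Subgroup.eq_of_le_of_card_ge hDφ
      (card_map_of_injective φ.injective).ge
    have h2 := H79.ZJ_map (p := p) (b := true) (f := φ.toMonoidHom) (D := D)
      fun x _ hx => φ.injective (hx.trans φ.toMonoidHom.map_one.symm)
    rw [hDφ'] at h2
    exact ⟨φ z, h2.le ⟨z, hz, rfl⟩, rfl⟩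
  have hZp : IsPGroup p Z := (S.isPGroup'.to_le (H79.ZJ_le D)).map _
  have hZne : Z ≠ ⊥ := fun e => H79.ZJ_ne_bot (b := true) S.isPGroup' hDne
    ((Subgroup.map_eq_bot_iff_of_injective _ N.subtype_injective).mp e)
  set X := N ⊓ normalizer (Z : Set Γ) with hX
  have hXi : A ≤ normalizer (X : Set Γ) :=
    H8.le_normalizer_inf h.inv (le_normalizer_normalizer hZi)
  have hXs : Group.IsSolvable X := h.solv X inf_le_left
    (h.normalizer_ne (map_subtype_le _) hZi hZne (h.ne_of_pGroup hZp)) hXi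
  by_cases hcent : ∀ s : ℕ, s.Prime → s ≠ p → ∀ R : Subgroup Γ, R ≤ X → IsPGroup p R →
      A ≤ normalizer (R : Set Γ) →
      X ⊓ syl A N s ⊓ normalizer (R : Set Γ) ≤ centralizer (R : Set Γ)
  · exfalso
    obtain ⟨K, hK⟩ := h0.exists_pComp X inf_le_left hXi hXs hcent
    have hG : Cfsg.HasNormalPComplement p ↥(normalizer ((H79.ZJ p true D : Subgroup N) : Set N)) := by
      rw [H5.hasNormalPComplement_iff_not_dvd]
      set Y := normalizer ((H79.ZJ p true D : Subgroup N) : Set N) with hY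
      set g : Y →* Γ := N.subtype.comp Y.subtype with hg
      have hgi : Function.Injective g := N.subtype_injective.comp Y.subtype_injective
      intro hd
      refine hK.ndvd (hd.trans ((card_dvd_of_le (K := K.comap g) ?_).trans ?_))
      · rw [Cfsg.pResidual, closure_le]
        intro y hy
        refine hK.mem (g y) ⟨(y : N).2, ?_⟩ (by rwa [orderOf_injective g hgi])
        exact Subgroup.le_normalizer_map N.subtype ⟨y, y.2, rfl⟩
      · rw [← card_map_of_injective hgi (K := K.comap g)]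
        exact card_dvd_of_le (map_comap_le g K)
    have hN := H79.hasNormalPComplement_of_ZJ hp2 true (Nat.card N) N le_rfl S D
      ⟨le_rfl, fun x _ g hg => hg⟩ hG
    rw [H5.hasNormalPComplement_iff_not_dvd] at hN
    refine h.false_of_pComp hP (K := (Cfsg.pResidual p N).map N.subtype) ⟨map_subtype_le _, ?_,
      by rwa [card_map_of_injective N.subtype_injective], ?_⟩
    · refine le_normalizer_iff.mpr ?_
      rintro g hg _ ⟨x, hx, rfl⟩
      exact ⟨⟨g, hg⟩ * x * ⟨g, hg⟩⁻¹, H5.pResidual_map_le (p := p) (MulAut.conj (⟨g, hg⟩ : N)).toMonoidHom ⟨x, hx, rfl⟩, rfl⟩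
    · intro x hx hxo
      exact ⟨⟨x, hx⟩, H5.mem_pResidual_of_coprime (by rw [Subgroup.orderOf_mk]; exact hxo), rfl⟩
  push Not at hcent
  obtain ⟨s, hs, hsp, R, hRX, hR, hRi, hnc⟩ := hcent
  haveI := Fact.mk hs
  set B := X ⊓ syl A N s ⊓ normalizer (R : Set Γ) with hB
  have hBi : A ≤ normalizer (B : Set Γ) :=
    H8.le_normalizer_inf (h0.inf_syl_inv s hXi) (le_normalizer_normalizer hRi)
  have hBN : B ≤ N := inf_le_left.trans (inf_le_left.trans inf_le_left)
  obtain ⟨e, he, he1, heB⟩ := h0.exists_comp_not_le hBN hBi hnc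
  refine ⟨e, he, he1, fun d hd hde hPd => heB ?_⟩
  refine h0.centralizes_of_comp hR (hRX.trans inf_le_left) hRi (inf_le_left.trans hBN)
    (h0.comp_inv hBi he) (inf_le_left.trans inf_le_right)
    (h0.coprime_syl hsp.symm (inf_le_left.trans (inf_le_left.trans inf_le_right))) he he1
    inf_le_right hd hde ?_
  refine le_trans ?_ bot_le
  rw [← hPd]
  refine inf_le_inf_right _ ?_
  exact (H1.commutator_le_left_of_le_normalizer (inf_le_left.trans inf_le_right)).trans
    (Fpf.le_syl (hRX.trans inf_le_left) hRi hR)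

end Min

end H72.AbelianFour
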